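import Cfsg.Agent.Lib.ThreeP.Core
import Cfsg.Agent.Lib.Walter8.Reduce
import Cfsg.Agent.Lib.Classical.PSL2Involutions
import Cfsg.Agent.Lib.Char.TwoTrans
import Cfsg.Agent.Lib.A7Recog.Carmichael
import Cfsg.Agent.S0254

/-!
# Degree `3p`: Sylow `2`-subgroups of order `8`

With one class of involutions, each fixing three points, and `p ≡ 5 (mod 8)` the Sylow subgroup is
dihedral, so the group is `PSL(2, q)` or `A₇`; the master equations leave `A₆` only.
-/

set_option autoImplicit false
set_option linter.style.haveILetI false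
set_option linter.unusedSectionVars false

namespace Cfsg.Agent.ThreeP

open MulAction Cfsg

universe u v

section PSL

open PSL2Inv SL2Inv

variable {F : Type} [Field F] [Fintype F]

local notation "S₂" => Matrix.SpecialLinearGroup (Fin 2) F
local notation "P₂" => Matrix.ProjectiveSpecialLinearGroup (Fin 2) F

/-- The centraliser of an involution of `PSL(2, q)`, `q` odd. -/
theorem card_centralizer_psl (hodd : Odd (Fintype.card F)) {x : P₂} (hx : orderOf x = 2) :
    Nat.card (Subgroup.centralizer ({x} : Set P₂)) =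
      if Fintype.card F % 4 = 1 then Fintype.card F - 1 else Fintype.card F + 1 := by
  classical
  have h2 : (2 : F) ≠ 0 := by
    intro h
    haveI : CharP F 2 := CharTwo.of_one_ne_zero_of_two_eq_zero one_ne_zero h
    have := FiniteField.even_card_of_char_two (F := F) (ringChar.eq F 2)
    rw [Nat.odd_iff] at hodd
    omega
  have hx1 : x ≠ 1 := fun h => by rw [h, orderOf_one] at hx; omega
  have hxx : x * x = 1 := by
    have h := pow_orderOf_eq_one x
    rwa [hx, sq] at h
  have hcl := isConj_pr_w h2 hxx hx1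
  rw [← SL2Classes.centralizer_conj_card hcl]
  set K := (Subgroup.centralizer ({(pr (w : S₂))} : Set P₂)).comap (pr (F := F)) with hK
  obtain ⟨j, hj⟩ := exists_anti (F := F) h2
  have hmem : ∀ g : S₂, g ∈ K ↔ g * w = w * g ∨ g * w = negOne * (w * g) := by
    intro g
    rw [hK, Subgroup.mem_comap, Subgroup.mem_centralizer_singleton_iff, ← map_mul, ← map_mul, eq_comm,
      pr_eq_iff]
  have hjw : j * w = negOne * (w * j) := hj.2
  have hwj : w * j = negOne * (j * w) := by rw [hjw, ← mul_assoc, negOne_mul_self, one_mul]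
  have hne : ∀ y : S₂, y ≠ negOne * y := fun y h =>
    negOne_ne_one h2 (mul_eq_right.1 h.symm)
  let f : (Subgroup.centralizer ({(w : S₂)} : Set S₂)) ⊕ (Subgroup.centralizer ({(w : S₂)} : Set S₂)) → K :=
    Sum.elim (fun c => ⟨c, (hmem _).2 (Or.inl (Subgroup.mem_centralizer_singleton_iff.1 c.2))⟩)
      (fun c => ⟨j * c, (hmem _).2 (Or.inr (by
        rw [mul_assoc, Subgroup.mem_centralizer_singleton_iff.1 c.2, ← mul_assoc, hjw]
        simp only [mul_assoc]))⟩)
  have hf : Function.Bijective f := by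
    constructor
    · rintro (⟨a, ha⟩ | ⟨a, ha⟩) (⟨b, hb⟩ | ⟨b, hb⟩) h
      · obtain rfl : a = b := congrArg Subtype.val h
        rfl
      · exfalso
        have e : a = j * b := congrArg Subtype.val h
        rw [Subgroup.mem_centralizer_singleton_iff] at ha hb
        have e2 : j * b * w = negOne * (w * (j * b)) := by
          rw [mul_assoc, hb, ← mul_assoc, hjw]; simp only [mul_assoc]
        rw [← e, ha] at e2
        exact hne _ e2
      · exfalso
        have e : j * a = b := congrArg Subtype.val h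
        rw [Subgroup.mem_centralizer_singleton_iff] at ha hb
        have e2 : j * a * w = negOne * (w * (j * a)) := by
          rw [mul_assoc, ha, ← mul_assoc, hjw]; simp only [mul_assoc]
        rw [e, hb] at e2
        exact hne _ e2
      · have e : j * a = j * b := congrArg Subtype.val h
        obtain rfl : a = b := mul_left_cancel e
        rfl
    · rintro ⟨g, hg⟩
      rcases (hmem g).1 hg with h | h
      · exact ⟨Sum.inl ⟨g, Subgroup.mem_centralizer_singleton_iff.2 h⟩, rfl⟩
      · refine ⟨Sum.inr ⟨j⁻¹ * g, ?_⟩, Subtype.ext (mul_inv_cancel_left j g)⟩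
        rw [Subgroup.mem_centralizer_singleton_iff, mul_assoc, h, inv_mul_eq_iff_eq_mul, ← mul_assoc j,
          hjw]
        simp only [mul_assoc, mul_inv_cancel_left]
  have hKc : Nat.card K = 2 * Nat.card (C : Subgroup S₂) := by
    rw [← Nat.card_congr (Equiv.ofBijective f hf), Nat.card_sum, two_mul]
    rfl
  have hidx : K.index = (Subgroup.centralizer ({(pr (w : S₂))} : Set P₂)).index :=
    Subgroup.index_comap_of_surjective _ pr_surjective
  have h1 := K.card_mul_index
  have h3 := (Subgroup.centralizer ({(pr (w : S₂))} : Set P₂)).card_mul_index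
  have hS : Nat.card S₂ = 2 * Nat.card P₂ := by
    rw [Walter8.two_mul_card_psl hodd, SL2Inv.card_sl2, Nat.card_eq_fintype_card (α := F)]
    obtain ⟨n, hn⟩ : ∃ n, Fintype.card F = n + 1 := ⟨Fintype.card F - 1, by have := hodd.pos; omega⟩
    rw [hn, Nat.add_sub_cancel, show (n + 1) ^ 2 - 1 = n * (n + 2) by
      rw [show (n + 1) ^ 2 = n * (n + 2) + 1 by ring, Nat.add_sub_cancel]]
    ring
  rw [hidx, hKc, hS, ← h3, mul_assoc] at h1
  have h4 : Nat.card (C : Subgroup S₂) = Nat.card (Subgroup.centralizer ({(pr (w : S₂))} : Set P₂)) := by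
    refine Nat.eq_of_mul_eq_mul_right (show 0 < (Subgroup.centralizer ({(pr (w : S₂))} : Set P₂)).index from
      Nat.pos_of_ne_zero Subgroup.FiniteIndex.index_ne_zero) ?_
    omega
  rw [← h4, SL2Inv.card_C h2, Nat.card_eq_fintype_card]

end PSL

/-- The outcome for Sylow `2`-subgroups of order `8`. -/
def EightTarget (G : Type u) [Group G] (v : G) : Prop :=
  (∃ (F : Type) (_ : Field F) (_ : Fintype F), Nonempty (G ≃* Matrix.ProjectiveSpecialLinearGroup (Fin 2) F) ∧
      2 * Nat.card G = Fintype.card F * (Fintype.card F ^ 2 - 1) ∧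
      (Fintype.card F % 16 = 9 ∧ Nat.card (Subgroup.centralizer ({v} : Set G)) = Fintype.card F - 1 ∨
        Fintype.card F % 16 = 7 ∧ Nat.card (Subgroup.centralizer ({v} : Set G)) = Fintype.card F + 1)) ∨
    Nat.card G = 2520

variable {G : Type u} [Group G] [Fintype G] {p : ℕ} {Ω : Type v} [MulAction G Ω]
  [IsPretransitive G Ω] [FaithfulSMul G Ω] [Finite Ω]

/-- The Sylow subgroup is dihedral. -/
theorem eight_target [IsSimpleGroup G] (hG : ¬ IsMulCommutative G) (hΩ : Nat.card Ω = 3 * p)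
    (hp8 : p % 8 = 5) {v : G} (hv : orderOf v = 2) (hone : ∀ w : G, orderOf w = 2 → IsConj v w)
    (hf : fix Ω v = 3) {m : ℕ} (hm : Odd m) (hGc : Nat.card G = 8 * m) : EightTarget G v := by
  classical
  haveI := Fact.mk Nat.prime_two
  obtain ⟨T⟩ : Nonempty (Sylow 2 G) := inferInstance
  obtain ⟨g, hg⟩ := IsPGroup.iff_card.1 T.isPGroup'
  have hT : Nat.card (T : Subgroup G) = 8 := by
    have hd : Nat.card (T : Subgroup G) ∣ 8 := by
      have h := Subgroup.card_subgroup_dvd_card (T : Subgroup G)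
      rw [hGc, hg] at h
      rw [hg]
      exact Nat.Coprime.dvd_of_dvd_mul_right ((Nat.coprime_two_left.2 hm).pow_left g) h
    refine Nat.dvd_antisymm hd ?_
    have hidx : ¬ 2 ∣ (T : Subgroup G).index := T.not_dvd_index
    have hcop : Nat.Coprime 8 (T : Subgroup G).index :=
      ((Nat.prime_two.coprime_iff_not_dvd).2 hidx).pow_left 3
    refine hcop.dvd_of_dvd_mul_right ?_
    rw [(T : Subgroup G).card_mul_index, hGc]
    exact dvd_mul_right 8 m
  rcases Ord3640.eight_cases hG T hT with e | ⟨-, hord, -, -⟩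
  · rcases GW.simpleDihedral G T 4 (by norm_num) e with ⟨F, i1, i2, hodd, -, ⟨e'⟩⟩ | h7
    · refine Or.inl ⟨F, i1, i2, ⟨e'⟩, ?_, ?_⟩
      · rw [Nat.card_congr e'.toEquiv, Walter8.two_mul_card_psl hodd]
      have hq : Fintype.card F % 16 = 7 ∨ Fintype.card F % 16 = 9 :=
        Walter8.mod_sixteen hodd (by rw [← hGc, Nat.card_congr e'.toEquiv, Walter8.two_mul_card_psl hodd]) hm
      have hC : Nat.card (Subgroup.centralizer ({v} : Set G)) =
          if Fintype.card F % 4 = 1 then Fintype.card F - 1 else Fintype.card F + 1 := by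
        rw [← card_centralizer_psl hodd (x := e' v) (by rw [MulEquiv.orderOf_eq, hv])]
        refine Nat.card_congr (e'.toEquiv.subtypeEquiv fun y => ?_)
        rw [Subgroup.mem_centralizer_singleton_iff, Subgroup.mem_centralizer_singleton_iff]
        show y * v = v * y ↔ e' y * e' v = e' v * e' y
        rw [← map_mul, ← map_mul, e'.injective.eq_iff]
      rcases hq with hq | hq
      · exact Or.inr ⟨hq, by rw [hC, if_neg (by omega)]⟩
      · exact Or.inl ⟨hq, by rw [hC, if_pos (by omega)]⟩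
    · obtain ⟨e'⟩ := h7
      exact Or.inr ((Nat.card_congr e'.toEquiv).trans A7Recog.card_alt_seven)
  · exfalso
    have hfib : ∀ z : (T : Subgroup G), Nat.card (fixedBy Ω z) = if z = 1 then 3 * p else 3 := by
      intro z
      split_ifs with hz
      · subst hz
        rw [← hΩ]
        exact Nat.card_congr ((Equiv.setCongr (by ext a; simp)).trans (Equiv.Set.univ Ω))
      · have h1 : (z : G) ≠ 1 := fun h => hz (Subtype.ext h)
        obtain ⟨h, hh⟩ := isConj_iff.1 (hone _ (hord _ z.2 h1))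
        rw [← hf, ← fix_conj (Ω := Ω) v h, hh]
        rfl
    have hsum := Char.sum_natCard_fixedBy (G := (T : Subgroup G)) Ω
    rw [Finset.sum_congr rfl (fun z _ => hfib z), Finset.sum_ite, Finset.filter_eq',
      if_pos (Finset.mem_univ _), Finset.sum_singleton, Finset.sum_const, Finset.filter_ne',
      Finset.card_erase_of_mem (Finset.mem_univ _), Finset.card_univ, ← Nat.card_eq_fintype_card, hT,
      smul_eq_mul] at hsum
    omega

/-- A divisor of a product of two coprime powers of three. -/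
theorem r_eq_one {r : ℤ} {n : ℕ} (hr : r % 8 = 1) (h : 3 * (r * (2 * r + 1)) = (3 : ℤ) ^ n) : r = 1 := by
  have h1 : r.natAbs ∣ 3 ^ n := Int.natCast_dvd_natCast.1 (by
    rw [Int.natAbs_dvd]; push_cast; rw [← h]; exact dvd_mul_of_dvd_right (dvd_mul_right _ _) 3)
  have h2 : (2 * r + 1).natAbs ∣ 3 ^ n := Int.natCast_dvd_natCast.1 (by
    rw [Int.natAbs_dvd]; push_cast; rw [← h]; exact dvd_mul_of_dvd_right (dvd_mul_left _ _) 3)
  obtain ⟨i, -, hi⟩ := (Nat.dvd_prime_pow Nat.prime_three).1 h1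
  obtain ⟨j, -, hj⟩ := (Nat.dvd_prime_pow Nat.prime_three).1 h2
  rcases i with _ | i
  · rw [pow_zero] at hi
    omega
  rcases j with _ | j
  · rw [pow_zero] at hj
    omega
  exfalso
  rw [pow_succ] at hi hj
  omega

/-- The case of the constituent of degree `2 p - 1`. -/
theorem eight_caseC (hp : p.Prime) (hp8 : p % 8 = 5) (hpG : p ∣ Nat.card G) {v : G}
    (ht : EightTarget G v) {r : ℤ} (hr : r % 8 = 1) (hquad : 6 * r * r + 3 * r + 1 = 2 * (p : ℤ))
    (heq : 2 * ((p : ℤ) - 1) * (Nat.card G : ℤ) =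
      p * (2 * (p : ℤ) - 1) * (Nat.card (Subgroup.centralizer ({v} : Set G)) : ℤ) ^ 2) :
    p = 5 ∧ Nonempty (G ≃* alternatingGroup (Fin 6)) := by
  classical
  rcases ht with ⟨F, _, _, ⟨e⟩, hcard, hcase⟩ | h7
  · set q := Fintype.card F with hq
    have hq1 : 1 ≤ q ^ 2 := Nat.one_le_pow _ _ Fintype.card_pos
    have hcardZ : 2 * (Nat.card G : ℤ) = (q : ℤ) * ((q : ℤ) ^ 2 - 1) := by
      have h := congrArg (fun n : ℕ => (n : ℤ)) hcard
      push_cast [Nat.cast_sub hq1] at h
      exact h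
    have hp0 : (0 : ℤ) < (p : ℤ) - 1 := by have := hp.two_le; omega
    rcases hcase with ⟨h9, hC⟩ | ⟨h7, hC⟩
    · obtain ⟨m, hm⟩ : ∃ m : ℤ, (q : ℤ) = 2 * m + 1 := ⟨(q : ℤ) / 2, by omega⟩
      have hm0 : 0 < m := by omega
      rw [hC, Nat.cast_sub Fintype.card_pos, Nat.cast_one, hm] at heq
      rw [hm] at hcardZ
      have h1 : ((p : ℤ) - 1) * ((2 * m + 1) * (m + 1)) = p * (2 * (p : ℤ) - 1) * m := by
        refine mul_left_cancel₀ (show (4 * m : ℤ) ≠ 0 by omega) ?_
        linear_combination heq - ((p : ℤ) - 1) * hcardZ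
      set j := (p : ℤ) * (2 * (p : ℤ) - 1) - (2 * m + 3) * ((p : ℤ) - 1) with hj
      have hjm : (p : ℤ) - 1 = j * m := by rw [hj]; linear_combination h1
      have h2 : j * ((2 * m + 1) * (m + 1) - 3 * m - 2 * j * (m * m)) = 1 := by
        refine mul_left_cancel₀ hm0.ne' ?_
        have e : (p : ℤ) = j * m + 1 := by linarith
        rw [e] at h1
        linear_combination h1
      have hj1 : j = 1 := by
        rcases Int.eq_one_or_neg_one_of_mul_eq_one h2 with h | h
        · exact h
        · rw [h] at hjm; linarith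
      have hq2 : (q : ℤ) = 2 * (p : ℤ) - 1 := by rw [hm]; rw [hj1] at hjm; linarith
      obtain ⟨l, hl⟩ := CharP.exists F
      obtain ⟨n, hlp, hn⟩ := FiniteField.card F l
      have h3 : (3 : ℤ) * (r * (2 * r + 1)) = (q : ℤ) := by rw [hq2]; linear_combination hquad
      have hl3 : l = 3 := by
        refine ((Nat.prime_dvd_prime_iff_eq Nat.prime_three hlp).1 ?_).symm
        refine Nat.prime_three.dvd_of_dvd_pow (n := (n : ℕ)) ?_
        rw [← hn]
        exact Int.natCast_dvd_natCast.1 ⟨r * (2 * r + 1), h3.symm⟩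
      have hr1 : r = 1 := r_eq_one (n := (n : ℕ)) hr (by rw [h3, hq, hn, hl3]; push_cast; rfl)
      subst hr1
      have hp5 : p = 5 := by omega
      refine ⟨hp5, ?_⟩
      obtain ⟨e6⟩ := Cfsg.Agent.S0254.result (F := F) (by omega)
      exact ⟨e.trans e6⟩
    · exfalso
      obtain ⟨m, hm⟩ : ∃ m : ℤ, (q : ℤ) = 2 * m - 1 := ⟨((q : ℤ) + 1) / 2, by omega⟩
      have hm0 : 0 < m := by omega
      rw [hC, Nat.cast_add, Nat.cast_one, hm] at heq
      rw [hm] at hcardZ
      have h1 : ((p : ℤ) - 1) * ((2 * m - 1) * (m - 1)) = p * (2 * (p : ℤ) - 1) * m := by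
        refine mul_left_cancel₀ (show (4 * m : ℤ) ≠ 0 by omega) ?_
        linear_combination heq - ((p : ℤ) - 1) * hcardZ
      set j := (p : ℤ) * (2 * (p : ℤ) - 1) - (2 * m - 3) * ((p : ℤ) - 1) with hj
      have hjm : (p : ℤ) - 1 = j * m := by rw [hj]; linear_combination h1
      have h2 : j * ((2 * m - 1) * (m - 1) - 3 * m - 2 * j * (m * m)) = 1 := by
        refine mul_left_cancel₀ hm0.ne' ?_
        have e : (p : ℤ) = j * m + 1 := by linarith
        rw [e] at h1
        linear_combination h1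
      rcases Int.eq_one_or_neg_one_of_mul_eq_one h2 with h | h
      · rw [h] at h2; linarith
      · rw [h] at hjm; linarith
  · exfalso
    have hp5 : p = 5 := by
      rw [h7, show 2520 = 2 * 2 * 2 * 3 * 3 * 5 * 7 from rfl] at hpG
      simp only [hp.dvd_mul, Nat.prime_dvd_prime_iff_eq hp Nat.prime_two,
        Nat.prime_dvd_prime_iff_eq hp Nat.prime_three,
        Nat.prime_dvd_prime_iff_eq hp (by norm_num : Nat.Prime 5),
        Nat.prime_dvd_prime_iff_eq hp (by norm_num : Nat.Prime 7)] at hpG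
      omega
    subst hp5
    rw [h7] at heq
    set c := Nat.card (Subgroup.centralizer ({v} : Set G))
    have hc : (c : ℤ) ^ 2 = 448 := by norm_num at heq; linarith
    have hc1 : c < 22 := by
      by_contra h
      have : (22 : ℤ) ≤ c := by omega
      nlinarith
    interval_cases c <;> norm_num at hc

/-- The case of the constituent of degree `3 p - 1`. -/
theorem eight_caseD (hp : p.Prime) (hp8 : p % 8 = 5) (hpG : p ∣ Nat.card G) {v : G}
    (ht : EightTarget G v)
    (heq : (Nat.card G : ℤ) * (3 * (p : ℤ) - 3) ^ 2 = p * (3 * (p : ℤ) - 1) * (3 * (p : ℤ) - 2) *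
      (Nat.card (Subgroup.centralizer ({v} : Set G)) : ℤ) ^ 2) : False := by
  classical
  rcases ht with ⟨F, _, _, -, hcard, hcase⟩ | h7
  · set q := Fintype.card F with hq
    have hq1 : 1 ≤ q ^ 2 := Nat.one_le_pow _ _ Fintype.card_pos
    have hcardZ : 2 * (Nat.card G : ℤ) = (q : ℤ) * ((q : ℤ) ^ 2 - 1) := by
      have h := congrArg (fun n : ℕ => (n : ℤ)) hcard
      push_cast [Nat.cast_sub hq1] at h
      exact h
    obtain ⟨δ, Q, hδ, hQ, hQ0, hC⟩ : ∃ δ Q : ℤ, (δ = 1 ∨ δ = -1) ∧ (q : ℤ) = 8 * Q + δ ∧ 0 < Q ∧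
        (Nat.card (Subgroup.centralizer ({v} : Set G)) : ℤ) = 8 * Q := by
      rcases hcase with ⟨h, hC⟩ | ⟨h, hC⟩
      · exact ⟨1, ((q : ℤ) - 1) / 8, Or.inl rfl, by omega, by omega, by
          rw [hC, Nat.cast_sub Fintype.card_pos]; omega⟩
      · exact ⟨-1, ((q : ℤ) + 1) / 8, Or.inr rfl, by omega, by omega, by rw [hC]; omega⟩
    have hδ2 : δ * δ = 1 := by rcases hδ with rfl | rfl <;> norm_num
    obtain ⟨U, hU⟩ : ∃ U : ℤ, (p : ℤ) = 4 * U + 1 := ⟨(p : ℤ) / 4, by omega⟩
    have hU1 : 1 ≤ U := by omega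
    rw [hC, hU] at heq
    rw [hQ] at hcardZ
    -- the reduced equation
    have h1 : 9 * (U * U) * ((8 * Q + δ) * (4 * Q + δ)) =
        (4 * U + 1) * (6 * U + 1) * (12 * U + 1) * Q := by
      refine mul_left_cancel₀ (show (128 * Q : ℤ) ≠ 0 by omega) ?_
      linear_combination heq - 72 * (U * U) * hcardZ + (-72 * (U * U) * (8 * Q + δ)) * hδ2
    have hQd : Q ∣ 9 * (U * U) := by
      refine ⟨(4 * U + 1) * (6 * U + 1) * (12 * U + 1) - 9 * (U * U) * (32 * Q + 12 * δ), ?_⟩
      linear_combination h1 + (-9 * (U * U)) * hδ2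
    have hpU : IsCoprime (3 : ℤ) (4 * U + 1) := by
      rw [← hU]
      exact Nat.isCoprime_iff_coprime.2 ((Nat.coprime_primes Nat.prime_three hp).2 (by omega))
    have hcop : IsCoprime (9 * (U * U) : ℤ) ((4 * U + 1) * (6 * U + 1) * (12 * U + 1)) := by
      have h3 : IsCoprime (3 : ℤ) ((4 * U + 1) * (6 * U + 1) * (12 * U + 1)) :=
        IsCoprime.mul_right (IsCoprime.mul_right hpU ⟨-2 * U, 1, by ring⟩) ⟨-4 * U, 1, by ring⟩
      have hU' : IsCoprime U ((4 * U + 1) * (6 * U + 1) * (12 * U + 1)) :=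
        IsCoprime.mul_right (IsCoprime.mul_right ⟨-4, 1, by ring⟩ ⟨-6, 1, by ring⟩) ⟨-12, 1, by ring⟩
      rw [show (9 : ℤ) = 3 * 3 by norm_num]
      exact IsCoprime.mul_left (IsCoprime.mul_left h3 h3) (IsCoprime.mul_left hU' hU')
    have hdQ : 9 * (U * U) ∣ Q := hcop.dvd_of_dvd_mul_left ⟨_, h1.symm⟩
    have hQU : Q = 9 * (U * U) :=
      Int.dvd_antisymm hQ0.le (by positivity) hQd hdQ
    subst hQU
    have h2 : (72 * (U * U) + δ) * (36 * (U * U) + δ) = (4 * U + 1) * (6 * U + 1) * (12 * U + 1) := by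
      refine mul_left_cancel₀ (show (9 * (U * U) : ℤ) ≠ 0 by positivity) ?_
      linear_combination h1
    have hUU : 1 ≤ U * U := by nlinarith
    have hlow : (71 * (U * U)) * (35 * (U * U)) ≤ (72 * (U * U) + δ) * (36 * (U * U) + δ) := by
      refine mul_le_mul ?_ ?_ (by positivity) ?_ <;> rcases hδ with rfl | rfl <;> nlinarith
    have hhigh : (4 * U + 1) * (6 * U + 1) * (12 * U + 1) ≤ (5 * U) * (7 * U) * (13 * U) := by
      refine mul_le_mul (mul_le_mul ?_ ?_ ?_ ?_) ?_ ?_ ?_ <;> nlinarith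
    nlinarith [mul_nonneg (mul_nonneg (show (0 : ℤ) ≤ U by omega) (show (0 : ℤ) ≤ U by omega))
      (show (0 : ℤ) ≤ U by omega)]
  · have hp5 : p = 5 := by
      rw [h7, show 2520 = 2 * 2 * 2 * 3 * 3 * 5 * 7 from rfl] at hpG
      simp only [hp.dvd_mul, Nat.prime_dvd_prime_iff_eq hp Nat.prime_two,
        Nat.prime_dvd_prime_iff_eq hp Nat.prime_three,
        Nat.prime_dvd_prime_iff_eq hp (by norm_num : Nat.Prime 5),
        Nat.prime_dvd_prime_iff_eq hp (by norm_num : Nat.Prime 7)] at hpG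
      omega
    subst hp5
    rw [h7] at heq
    generalize (Nat.card (Subgroup.centralizer ({v} : Set G)) : ℤ) ^ 2 = K at heq
    norm_num at heq
    omega

end Cfsg.Agent.ThreeP
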