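import Cfsg.Agent.Lib.ThreeP.RankThree
import Cfsg.Agent.Lib.ThreeP.Eight
import Cfsg.Agent.Lib.SEMain.Proof
import Cfsg.Agent.Lib.SEMain.Bender
import Cfsg.Agent.Lib.CNSimple.Frame
import Cfsg.Agent.Lib.Classical.HermSU
import Cfsg.Agent.Lib.Classical.HermStd
import Cfsg.Agent.Lib.EPPO.Main
import Cfsg.Agent.S0157

/-!
# Degree `3p`: the cases for the constituents

The case `s = 1` (`p = 5`) is impossible by parity. For `d = 2 p - 1` and `d = 3 p - 1` either involutions
fix one point, so that a stabiliser is strongly embedded, or three and the Sylow `2`-subgroups have order `8`.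
-/

set_option autoImplicit false
set_option linter.style.haveILetI false
set_option linter.unusedSectionVars false

namespace Cfsg.Agent.ThreeP

open MulAction Cfsg Cfsg.Agent.Char Cfsg.Agent.DegreePTwo
open scoped ComplexConjugate

universe u v

/-- Two factorisations into a power of two and an odd number. -/
theorem two_pow_unique {a b : ℕ} {x y : ℕ} (h : 2 ^ a * x = 2 ^ b * y) (hx : Odd x) (hy : Odd y) :
    a = b := by
  rcases Nat.lt_trichotomy a b with hlt | heq | hlt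
  · exfalso
    obtain ⟨j, rfl⟩ : ∃ j, b = a + (j + 1) := ⟨b - a - 1, by omega⟩
    rw [pow_add, mul_assoc] at h
    rw [Nat.eq_of_mul_eq_mul_left (show 0 < 2 ^ a by positivity) h, pow_succ', Nat.odd_mul,
      Nat.odd_mul] at hx
    exact absurd hx.1.1 (by decide)
  · exact heq
  · exfalso
    obtain ⟨j, rfl⟩ : ∃ j, a = b + (j + 1) := ⟨a - b - 1, by omega⟩
    rw [pow_add, mul_assoc] at h
    rw [← Nat.eq_of_mul_eq_mul_left (show 0 < 2 ^ b by positivity) h, pow_succ', Nat.odd_mul,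
      Nat.odd_mul] at hy
    exact absurd hy.1.1 (by decide)

variable {G : Type u} [Group G] [Fintype G] {p : ℕ} {one ξ : IrrCharacter G}
  {Y : Finset (IrrCharacter G)} {s ε : ℤ} {d e : ℕ}
  {Ω : Type v} [MulAction G Ω] [IsPretransitive G Ω] [FaithfulSMul G Ω] [Finite Ω]

/-- An inverting involution centralises no element of order `p`. -/
theorem not_dvd_centralizer (S : Grp G p) {v : G} (hv : orderOf v = 2) :
    ¬ p ∣ Nat.card (Subgroup.centralizer ({v} : Set G)) := by
  intro h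
  haveI := Fact.mk S.prime
  obtain ⟨y, hy⟩ := exists_prime_orderOf_dvd_card' p h
  have hy' : orderOf (y : G) = p := by rw [Subgroup.orderOf_coe, hy]
  have hmem : v ∈ Subgroup.centralizer ({(y : G)} : Set G) :=
    Subgroup.mem_centralizer_singleton_iff.2 (Subgroup.mem_centralizer_singleton_iff.1 y.2).symm
  have h1 := Subgroup.orderOf_dvd_natCard _ hmem
  rw [S.card_centralizer _ hy', hv] at h1
  have := (Nat.prime_dvd_prime_iff_eq Nat.prime_two S.prime).1 h1
  have := S.five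
  omega

/-- With involutions fixing one point a stabiliser is strongly embedded. -/
theorem se_stabilizer [IsSimpleGroup G] (hG : ¬ IsMulCommutative G) (S : Grp G p)
    (hΩ : Nat.card Ω = 3 * p) {v : G} (hv : orderOf v = 2) (hone : ∀ w : G, orderOf w = 2 → IsConj v w)
    (hf : fix Ω v = 1) (a : Ω) : Cfsg.IsStronglyEmbedded (stabilizer G a) := by
  haveI := Fact.mk Nat.prime_two
  have h5 := S.five
  refine ⟨fun htop => ?_, ?_, fun g hg => ?_⟩
  · have h := index_stabilizer_of_transitive G a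
    rw [htop, Subgroup.index_top, hΩ] at h
    omega
  · have h := (stabilizer G a).card_mul_index
    rw [index_stabilizer_of_transitive, hΩ] at h
    have h4 : 2 ∣ Nat.card (stabilizer G a) * (3 * p) := h ▸ (Dvd.intro 2 rfl).trans (four_dvd_card hG hv)
    obtain ⟨r, hr⟩ := S.prime.odd_of_ne_two (by omega)
    refine even_iff_two_dvd.2 ((Nat.prime_two.dvd_mul.1 h4).resolve_right fun h2 => ?_)
    omega
  · rw [← Nat.not_even_iff_odd, even_iff_two_dvd]
    intro hd
    obtain ⟨w, hw⟩ := exists_prime_orderOf_dvd_card' 2 hd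
    have hw' : orderOf (w : G) = 2 := by rw [Subgroup.orderOf_coe, hw]
    obtain ⟨h, hh⟩ := isConj_iff.1 (hone _ hw')
    have h1 : fix Ω (w : G) = 1 := by rw [← hh, fix_conj, hf]
    have ha : (w : G) • a = a := (Subgroup.mem_inf.1 w.2).1
    have hga : (w : G) • (g • a) = g • a := by
      obtain ⟨y, hy, hye⟩ := (Subgroup.mem_inf.1 w.2).2
      rw [← hye]
      show (g * y * g⁻¹) • g • a = g • a
      rw [← mul_smul, inv_mul_cancel_right, mul_smul]
      congr 1
    have hne : g • a ≠ a := hg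
    have : Subsingleton (fixedBy Ω (w : G)) := (Nat.card_eq_one_iff_unique.1 h1).1
    exact hne (congrArg Subtype.val (Subsingleton.elim (⟨g • a, hga⟩ : fixedBy Ω (w : G)) ⟨a, ha⟩))

section

variable (S : Grp G p) (D : Dat p one ξ Y s ε d e) [IsSimpleGroup G]

include S D

/-- The case `s = 1` does not occur. -/
theorem not_plus (hG : ¬ IsMulCommutative G) (hΩ : Nat.card Ω = 3 * p) (hp : p = 5) (hs : s = 1)
    (hd : d = 6) (hπ : ∀ g : G, ¬ p ∣ orderOf g → (fix Ω g : ℂ) = 3 + 2 * (ξ : G → ℂ) g) : False := by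
  obtain ⟨x, v, hx, hv, hvx⟩ := S.exists_pair
  obtain ⟨A, a, b, hA, ha, hb, -⟩ := D.exists_value S hx hv hvx
  obtain ⟨hone, -, hM⟩ := D.master S hx hv hvx hA
  rw [hs, hd, hp] at ha hb hM
  have hf : (fix Ω v : ℤ) = 3 + 2 * A := by
    have h := hπ v (S.not_singular_two hv)
    rw [hA] at h
    exact_mod_cast h
  have hA0 : A = 0 := by
    rcases fix_inverting S hΩ hx hv hvx with h | h <;> rw [h] at hf <;> omega
  subst hA0
  obtain ⟨g, m, c, hg, hm, hc, hGc, hCc⟩ := exists_two hG hv hone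
  rw [hGc, hCc] at hM
  push_cast at hM
  have h1 : 2 ^ (g + 1) * (3 * m) = 2 ^ (2 * g) * (35 * (c * c)) := by
    have : ((2 ^ (g + 1) * (3 * m) : ℕ) : ℤ) = ((2 ^ (2 * g) * (35 * (c * c)) : ℕ) : ℤ) := by
      push_cast
      rw [pow_succ, mul_comm 2 g, pow_mul]
      refine mul_left_cancel₀ (show (6 : ℤ) ≠ 0 by norm_num) ?_
      linear_combination hM
    exact_mod_cast this
  have := two_pow_unique h1 (Nat.odd_mul.2 ⟨⟨1, rfl⟩, hm⟩) (Nat.odd_mul.2 ⟨⟨17, rfl⟩, hc.mul hc⟩)
  omega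

/-- The case `d = 2 p - 1`. -/
theorem caseC (hG : ¬ IsMulCommutative G) (hΩ : Nat.card Ω = 3 * p) (hs : s = -1) (hd : d = 2 * p - 1)
    {ψ : IrrCharacter G} (hψ1 : ψ ≠ one) (hψξ : ψ ≠ ξ) (hψp : (ψ : G → ℂ) 1 = (p : ℂ))
    (hπ : ∀ g : G, (fix Ω g : ℂ) = 1 + (ξ : G → ℂ) g + (ψ : G → ℂ) g) :
    p = 5 ∧ Nonempty (G ≃* alternatingGroup (Fin 6)) := by
  classical
  have hp := S.prime
  have h5 := S.five
  obtain ⟨x, v, hx, hv, hvx⟩ := S.exists_pair
  obtain ⟨A, a, b, hA, ha, hb, hab⟩ := D.exists_value S hx hv hvx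
  obtain ⟨hone, -, hM⟩ := D.master S hx hv hvx hA
  have hdZ : (d : ℤ) = 2 * (p : ℤ) - 1 := by omega
  rw [hs, hdZ] at ha hb hM
  have ha1 : a = 1 := by
    have h : ((a : ℤ) - 1) * (p : ℤ) = 0 := by linear_combination -ha
    rcases mul_eq_zero.1 h with h | h <;> omega
  have hA1 : A = 1 := by
    have h : (1 + A - 2 * (b : ℤ)) * (p : ℤ) = 0 := by linear_combination hb
    have h' : A = 2 * (b : ℤ) - 1 := by rcases mul_eq_zero.1 h with h | h <;> omega
    rcases (show b = 0 ∨ b = 1 by omega) with rfl | rfl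
    · exfalso
      rw [h'] at hM
      have hdvd : (p : ℤ) ∣ (2 * (p : ℤ) - 1) * (2 * (p : ℤ) - 2) *
          (Nat.card (Subgroup.centralizer ({v} : Set G)) : ℤ) ^ 2 := by
        refine ⟨(Nat.card G : ℤ) * 4, mul_left_cancel₀ (show (p : ℤ) ≠ 0 by omega) ?_⟩
        linear_combination -hM
      have hpp : Prime (p : ℤ) := Nat.prime_iff_prime_int.1 hp
      rcases hpp.dvd_or_dvd hdvd with h1 | h1
      · rcases hpp.dvd_or_dvd h1 with h2 | h2
        · have := Int.le_of_dvd one_pos (show (p : ℤ) ∣ 1 from by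
            have h3 := dvd_sub (dvd_mul_left (p : ℤ) 2) h2
            rwa [sub_sub_cancel] at h3)
          omega
        · have := Int.le_of_dvd two_pos (show (p : ℤ) ∣ 2 from by
            have h3 := dvd_sub (dvd_mul_left (p : ℤ) 2) h2
            rwa [sub_sub_cancel] at h3)
          omega
      · exact not_dvd_centralizer S hv (Int.natCast_dvd_natCast.1 (hpp.dvd_of_dvd_pow h1))
    · omega
  subst hA1
  have heq : 2 * ((p : ℤ) - 1) * (Nat.card G : ℤ) =
      p * (2 * (p : ℤ) - 1) * (Nat.card (Subgroup.centralizer ({v} : Set G)) : ℤ) ^ 2 := by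
    refine mul_left_cancel₀ (show (2 * (p : ℤ) - 2) ≠ 0 by omega) ?_
    linear_combination hM
  rcases fix_inverting S hΩ hx hv hvx with hf | hf
  · -- one fixed point: the group is doubly transitive
    exfalso
    obtain ⟨a₀⟩ := nonempty_points S hΩ
    have hse := se_stabilizer hG S hΩ hv hone hf a₀
    obtain ⟨Q, hQ⟩ := SEMain.exists_reg_simple SEMain.stmt hse
    have htrans : ∀ y z : Ω, y ≠ a₀ → z ≠ a₀ → ∃ h ∈ stabilizer G a₀, h • y = z := by
      intro y z hy hz
      obtain ⟨g₁, rfl⟩ := exists_smul_eq G a₀ y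
      obtain ⟨g₂, rfl⟩ := exists_smul_eq G a₀ z
      obtain ⟨u, hu, hu'⟩ := hQ.trans g₁ g₂ hy hz
      refine ⟨u, hQ.le hu, ?_⟩
      have h : (g₂⁻¹ * (u * g₁)) • a₀ = a₀ := hu'
      rwa [mul_smul, inv_smul_eq_iff, mul_smul] at h
    have h2 : IsMultiplyPretransitive G Ω 2 := by
      rw [MulAction.is_two_pretransitive_iff]
      intro a b c d hab hcd
      obtain ⟨g, rfl⟩ := exists_smul_eq G a₀ a
      obtain ⟨g', rfl⟩ := exists_smul_eq G a₀ c
      obtain ⟨h, hh, he⟩ := htrans (g⁻¹ • b) (g'⁻¹ • d)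
        (fun e => hab (by rw [inv_smul_eq_iff] at e; exact e.symm))
        (fun e => hcd (by rw [inv_smul_eq_iff] at e; exact e.symm))
      refine ⟨g' * h * g⁻¹, ?_, ?_⟩
      · rw [mul_smul, mul_smul, inv_smul_smul, show h • a₀ = a₀ from hh]
      · rw [mul_smul, mul_smul, he, smul_inv_smul]
    have hirr := (Cfsg.Agent.S0157.result (G := G) Ω (by omega)).2 h2
    let θ : IrrCharacter G := ⟨fun g => (Nat.card (fixedBy Ω g) : ℂ) - 1, hirr⟩
    have hθ : ∀ g : G, (θ : G → ℂ) g = (ξ : G → ℂ) g + (ψ : G → ℂ) g := by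
      intro g
      show (fix Ω g : ℂ) - 1 = _
      rw [hπ g]
      ring
    have h := sum_irr θ ξ
    simp only [hθ, add_mul, Finset.sum_add_distrib, sum_irr, if_pos rfl, if_neg hψξ, add_zero] at h
    by_cases he : θ = ξ
    · have h1 := hθ 1
      rw [he, hψp] at h1
      have : (p : ℂ) = 0 := by linear_combination -h1
      exact hp.ne_zero (Nat.cast_eq_zero.1 this)
    · rw [if_neg he] at h
      exact Nat.card_pos.ne' (Nat.cast_eq_zero.1 h)
  · obtain ⟨r, hr, hquad, m, hm, hGc⟩ := eight_of_three S D hG hΩ hs hd hψ1 hψξ hπ hv hone hf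
    obtain ⟨g, m', c, hg, hm', hc, hGc', hCc⟩ := exists_two hG hv hone
    have hg3 : g = 3 := two_pow_unique (hGc'.symm.trans (hGc.trans (by norm_num))) hm' hm
    subst hg3
    have h4 := four_dvd_sub_fix S hΩ hG hv
    rw [hf] at h4
    obtain ⟨U, hU⟩ : ∃ U : ℕ, p = 4 * U + 1 := ⟨p / 4, by omega⟩
    have hp8 : p % 8 = 5 := by
      have h1 : U * m = p * (2 * p - 1) * (c * c) := by
        have h := heq
        rw [hGc, hCc] at h
        rw [show 2 * p - 1 = 8 * U + 1 by omega]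
        apply Nat.cast_injective (R := ℤ)
        push_cast [hU] at h ⊢
        refine mul_left_cancel₀ (show (64 : ℤ) ≠ 0 by norm_num) ?_
        linear_combination h
      have h2 : Odd (U * m) := by
        rw [h1]
        exact (Nat.odd_mul.2 ⟨⟨2 * U, by omega⟩, ⟨p - 1, by omega⟩⟩).mul (hc.mul hc)
      obtain ⟨k, hk⟩ := (Nat.odd_mul.1 h2).1
      omega
    have ht := eight_target hG hΩ hp8 hv hone hf hm hGc
    exact eight_caseC hp hp8 (p_dvd_card S hΩ) ht hr hquad heq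

/-- The case `d = 3 p - 1`, involutions fixing one point. -/
theorem caseD_one (hG : ¬ IsMulCommutative G) (hΩ : Nat.card Ω = 3 * p) {v : G} (hv : orderOf v = 2)
    (hone : ∀ w : G, orderOf w = 2 → IsConj v w) (hf : fix Ω v = 1)
    (heq : (Nat.card G : ℤ) * (3 * (p : ℤ) - 1) =
      p * (3 * (p : ℤ) - 2) * (Nat.card (Subgroup.centralizer ({v} : Set G)) : ℤ) ^ 2) : False := by
  classical
  have hp := S.prime
  have h5 := S.five
  haveI := Fact.mk Nat.prime_two
  obtain ⟨a₀⟩ := nonempty_points S hΩ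
  have hse := se_stabilizer hG S hΩ hv hone hf a₀
  obtain ⟨Q, hQ⟩ := SEMain.exists_reg_simple SEMain.stmt hse
  obtain ⟨T, hT⟩ := hQ.exists_sylow hse
  -- the other points correspond to `Q`
  have hcQ : Nat.card Q = 3 * p - 1 := by
    obtain ⟨g₁, hg₁⟩ : ∃ g : G, g ∉ stabilizer G a₀ := SEMain.exists_not_mem hse
    let f : Q → {b : Ω // b ≠ a₀} := fun u => ⟨(u : G) • g₁ • a₀, fun h => hg₁ (by
      rw [mem_stabilizer_iff, ← inv_smul_smul (u : G) (g₁ • a₀), h]
      exact (stabilizer G a₀).inv_mem (hQ.le u.2))⟩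
    have hf : Function.Bijective f := by
      constructor
      · intro u w h
        have h' : (u : G) • g₁ • a₀ = (w : G) • g₁ • a₀ := congrArg Subtype.val h
        have := hQ.reg g₁ hg₁ ((w : G)⁻¹ * u) (Q.mul_mem (Q.inv_mem w.2) u.2) (by
          rw [mem_stabilizer_iff, mul_smul, mul_smul, mul_smul, h', inv_smul_smul, inv_smul_smul])
        exact Subtype.ext (inv_mul_eq_one.1 this).symm
      · rintro ⟨b, hb⟩
        obtain ⟨g₂, rfl⟩ := exists_smul_eq G a₀ b
        obtain ⟨u, hu, hu'⟩ := hQ.trans g₁ g₂ hg₁ hb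
        refine ⟨⟨u, hu⟩, Subtype.ext ?_⟩
        have h : (g₂⁻¹ * (u * g₁)) • a₀ = a₀ := hu'
        rwa [mul_smul, inv_smul_eq_iff, mul_smul] at h
    rw [Nat.card_congr (Equiv.ofBijective f hf)]
    haveI := Fintype.ofFinite Ω
    rw [Nat.card_eq_fintype_card, Fintype.card_subtype_compl, Fintype.card_subtype_eq,
      ← Nat.card_eq_fintype_card, hΩ]
  obtain ⟨n, hn⟩ := IsPGroup.iff_card.1 hQ.two
  have h2n : 2 ^ n = 3 * p - 1 := hn ▸ hcQ
  -- the order of the group
  have hodd : Odd Q.index := by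
    rw [← hT, Nat.odd_iff]
    exact Nat.two_dvd_ne_zero.1 T.not_dvd_index
  have hGQ : Nat.card G = 2 ^ n * Q.index := by rw [← hn, Subgroup.card_mul_index]
  rcases SEMain.S0222_of SEMain.stmt hse with ⟨F, i1, i2, hchar, -, ⟨e'⟩⟩ | hsz | ⟨F, i1, i2, q, hF, heven, hq4, ⟨e'⟩⟩
  · -- `PSL(2, q)`
    haveI := hchar
    obtain ⟨k, -, hk⟩ := FiniteField.card F 2
    set q := Fintype.card F with hq
    have hcard : Nat.card G = q * (q ^ 2 - 1) := by
      have h := EPPO.card_psl_two F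
      rw [← hq, ← Nat.card_congr e'.toEquiv] at h
      have hg : Nat.gcd 2 (q - 1) = 1 := by
        refine (Nat.prime_two.coprime_iff_not_dvd).2 ?_
        have : 0 < (k : ℕ) := k.pos
        obtain ⟨k', hk'⟩ : ∃ k', (k : ℕ) = k' + 1 := ⟨k - 1, by omega⟩
        rw [hk, hk', pow_succ]
        have := Nat.one_le_two_pow (n := k')
        omega
      rw [hg, one_mul] at h
      rw [h, mul_comm]
    have hkn : (k : ℕ) = n := by
      refine two_pow_unique (x := q ^ 2 - 1) (y := Q.index) ?_ ?_ hodd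
      · rw [← hk, ← hcard, hGQ]
      · rw [hk, ← pow_mul]
        exact Nat.Even.sub_odd Nat.one_le_two_pow (Nat.even_pow.2 ⟨even_two, by positivity⟩) odd_one
    have hqZ : (q : ℤ) = 3 * (p : ℤ) - 1 := by
      rw [hk, hkn, h2n]
      omega
    have hcardZ : (Nat.card G : ℤ) = (q : ℤ) * ((q : ℤ) ^ 2 - 1) := by
      have h := congrArg (fun t : ℕ => (t : ℤ)) hcard
      push_cast [Nat.cast_sub (Nat.one_le_pow 2 q Fintype.card_pos)] at h
      exact h
    set C := (Nat.card (Subgroup.centralizer ({v} : Set G)) : ℤ)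
    have h3 : 3 * ((q : ℤ) * (q : ℤ)) = C ^ 2 := by
      refine mul_left_cancel₀ (show ((p : ℤ) * (3 * (p : ℤ) - 2)) ≠ 0 from
        mul_ne_zero (by omega) (by omega)) ?_
      rw [hcardZ, hqZ] at heq
      rw [hqZ]
      linear_combination heq
    have h3C : (3 : ℤ) ∣ C := Int.prime_three.dvd_of_dvd_pow (n := 2) ⟨(q : ℤ) * q, h3.symm⟩
    obtain ⟨C', hC'⟩ := h3C
    have h3q : (3 : ℤ) ∣ (q : ℤ) * q := ⟨C' * C', by rw [hC'] at h3; linarith⟩
    have h3q' : (3 : ℤ) ∣ (q : ℤ) := by rcases Int.prime_three.dvd_or_dvd h3q with h | h <;> exact h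
    rw [hqZ] at h3q'
    omega
  · exact CNSimple.suzuki_three hsz (three_dvd_card S hΩ)
  · -- `PSU(3, q)`
    obtain ⟨σ, hσ, hne, hinv, hfix, -⟩ := HermStd.exists_sigma (q := q) (F := F) hF
    have hmain : Nat.gcd 3 (q + 1) * Nat.card G = q ^ 3 * ((q ^ 2 - 1) * (q ^ 3 + 1)) := by
      have h2 := HermSU.card_PSU_mul (n := 3) hne hinv hσ (by norm_num) hfix
      rw [HermStd.card_GU hne hinv hσ 3 hfix, ← Nat.card_congr e'.toEquiv] at h2
      simp only [Finset.prod_range_succ, Finset.prod_range_zero, one_mul, show Even 0 from ⟨0, rfl⟩,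
        show ¬ Even 1 from by decide, show Even 2 from ⟨1, rfl⟩, if_true, if_false] at h2
      norm_num at h2
      refine Nat.eq_of_mul_eq_mul_left (show 0 < q + 1 by omega) ?_
      rw [Nat.card_eq_fintype_card, mul_left_comm, h2]
      ring
    obtain ⟨k, hk⟩ : ∃ k, q = 2 ^ k := by
      obtain ⟨l, hl⟩ := CharP.exists F
      obtain ⟨i, hlp, hi⟩ := FiniteField.card F l
      have h2 : 2 ∣ l ^ (i : ℕ) := by
        rw [← hi, hF, sq]
        exact (even_iff_two_dvd.1 heven).mul_right q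
      have hl2 : l = 2 := ((Nat.prime_dvd_prime_iff_eq Nat.prime_two hlp).1
        (Nat.prime_two.dvd_of_dvd_pow h2)).symm
      subst hl2
      obtain ⟨k, -, hk⟩ := (Nat.dvd_prime_pow Nat.prime_two).1
        (show q ∣ 2 ^ (i : ℕ) by rw [← hi, hF, sq]; exact dvd_mul_right q q)
      exact ⟨k, hk⟩
    have hk0 : k ≠ 0 := by rintro rfl; rw [pow_zero] at hk; omega
    have hkn : 3 * k = n := by
      refine two_pow_unique (x := (q ^ 2 - 1) * (q ^ 3 + 1)) (y := Nat.gcd 3 (q + 1) * Q.index) ?_ ?_ ?_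
      · rw [mul_comm 3 k, pow_mul, ← hk, ← hmain, hGQ]
        ring
      · refine Nat.odd_mul.2 ⟨?_, ?_⟩
        · exact Nat.Even.sub_odd (Nat.one_le_pow _ _ (by omega)) (Nat.even_pow.2 ⟨heven, by norm_num⟩) odd_one
        · exact (Nat.even_pow.2 ⟨heven, by norm_num⟩).add_one
      · refine Nat.odd_mul.2 ⟨Odd.of_dvd_nat ⟨1, rfl⟩ (Nat.gcd_dvd_left 3 _), hodd⟩
    have hq3 : (q : ℤ) ^ 3 = 3 * (p : ℤ) - 1 := by
      have h : q ^ 3 = 3 * p - 1 := by rw [← h2n, ← hkn, hk, ← pow_mul, mul_comm]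
      have h' := congrArg (fun t : ℕ => (t : ℤ)) h
      push_cast [Nat.cast_sub (show 1 ≤ 3 * p by omega)] at h'
      exact h'
    set C := (Nat.card (Subgroup.centralizer ({v} : Set G)) : ℤ)
    set g3 := (Nat.gcd 3 (q + 1) : ℤ)
    have hmainZ : g3 * (Nat.card G : ℤ) = (q : ℤ) ^ 3 * (((q : ℤ) ^ 2 - 1) * ((q : ℤ) ^ 3 + 1)) := by
      have h := congrArg (fun t : ℕ => (t : ℤ)) hmain
      push_cast [Nat.cast_sub (show 1 ≤ q ^ 2 from Nat.one_le_pow _ _ (by omega))] at h
      exact h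
    set z := (q : ℤ)
    have hz : 4 ≤ z := Int.ofNat_le.2 hq4
    have hN : 3 * z ^ 6 * (z + 1) = g3 * C ^ 2 * (z ^ 2 + z + 1) := by
      refine mul_left_cancel₀ (show ((z - 1) * (p : ℤ)) ≠ 0 from mul_ne_zero (by omega) (by omega)) ?_
      linear_combination g3 * heq + (-(3 * (p : ℤ) - 1)) * hmainZ
        + (z ^ 3 * (z ^ 2 - 1) - (p : ℤ) * g3 * C ^ 2) * hq3
    have hdvd : z ^ 2 + z + 1 ∣ 3 := by
      have h1 : IsCoprime (z ^ 2 + z + 1) z := ⟨1, -(z + 1), by ring⟩
      have h2 : IsCoprime (z ^ 2 + z + 1) (z ^ 6 * (z + 1)) :=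
        IsCoprime.mul_right h1.pow_right ⟨1, -z, by ring⟩
      have h3 : z ^ 2 + z + 1 ∣ 3 * (z ^ 6 * (z + 1)) := ⟨g3 * C ^ 2, by linear_combination hN⟩
      exact h2.dvd_of_dvd_mul_right h3
    have := Int.le_of_dvd (by norm_num) hdvd
    nlinarith

/-- The case `d = 3 p - 1`, involutions fixing three points: the Sylow `2`-subgroups have order `8`. -/
theorem eight_of_three_D (hG : ¬ IsMulCommutative G) (hΩ : Nat.card Ω = 3 * p) {v : G}
    (hv : orderOf v = 2) (hone : ∀ w : G, orderOf w = 2 → IsConj v w) (hf : fix Ω v = 3)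
    (heq : (Nat.card G : ℤ) * (3 * (p : ℤ) - 3) ^ 2 = p * (3 * (p : ℤ) - 1) * (3 * (p : ℤ) - 2) *
      (Nat.card (Subgroup.centralizer ({v} : Set G)) : ℤ) ^ 2) :
    p % 8 = 5 ∧ ∃ m : ℕ, Odd m ∧ Nat.card G = 8 * m := by
  classical
  haveI := Fact.mk Nat.prime_two
  have h5 := S.five
  obtain ⟨g, m, c, hg, hm, hc, hGc, hCc⟩ := exists_two hG hv hone
  have h4 := four_dvd_sub_fix S hΩ hG hv
  rw [hf] at h4
  obtain ⟨U, hU⟩ : ∃ U : ℕ, p = 4 * U + 1 := ⟨p / 4, by omega⟩
  obtain ⟨t, u, hu, hUe⟩ := Nat.exists_eq_pow_mul_and_not_dvd (n := U) (by omega) 2 (by norm_num)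
  have hu' : Odd u := Nat.odd_iff.2 (Nat.two_dvd_ne_zero.1 hu)
  have hgt : g + 4 + 2 * t = 2 * g + 1 := by
    refine two_pow_unique (x := 9 * m * (u * u)) (y := p * (6 * U + 1) * (12 * U + 1) * (c * c)) ?_ ?_ ?_
    · apply Nat.cast_injective (R := ℤ)
      have hUZ : (U : ℤ) = 2 ^ t * (u : ℤ) := by exact_mod_cast hUe
      have hpZ : (p : ℤ) = 4 * (U : ℤ) + 1 := by exact_mod_cast hU
      rw [hGc, hCc] at heq
      push_cast at heq ⊢
      rw [hpZ] at heq ⊢
      rw [hUZ] at heq ⊢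
      have e1 : (2 : ℤ) ^ (g + 4 + 2 * t) = 16 * 2 ^ g * (2 ^ t) ^ 2 := by ring
      have e2 : (2 : ℤ) ^ (2 * g + 1) = 2 * (2 ^ g) ^ 2 := by ring
      rw [e1, e2]
      linear_combination heq
    · exact ((Nat.odd_mul.2 ⟨⟨4, rfl⟩, hm⟩).mul (hu'.mul hu'))
    · exact (((S.prime.odd_of_ne_two (by omega)).mul ⟨3 * U, by ring⟩).mul ⟨6 * U, by ring⟩).mul (hc.mul hc)
  -- a Sylow subgroup centralising `v`
  obtain ⟨K, hK⟩ := Sylow.exists_subgroup_card_pow_prime 2
    (show 2 ^ g ∣ Nat.card (Subgroup.centralizer ({v} : Set G)) from ⟨c, hCc⟩)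
  set W := K.map (Subgroup.centralizer ({v} : Set G)).subtype with hW
  have hWc : Nat.card W = 2 ^ g := by
    rw [hW, Subgroup.card_map_of_injective (Subgroup.subtype_injective _), hK]
  have hWv : ∀ w ∈ W, w * v = v * w := by
    rintro _ ⟨k, -, rfl⟩
    exact Subgroup.mem_centralizer_singleton_iff.1 k.2
  have hstab : ∀ w ∈ W, ∀ z : Ω, v • z = z → v • (w • z) = w • z := by
    intro w hw z hz
    rw [← mul_smul, ← hWv w hw, mul_smul, hz]
  let φ : W →* Equiv.Perm {z : Ω // v • z = z} :=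
    { toFun := fun w =>
        { toFun := fun z => ⟨(w : G) • (z : Ω), hstab _ w.2 _ z.2⟩
          invFun := fun z => ⟨((w : G))⁻¹ • (z : Ω), hstab _ (W.inv_mem w.2) _ z.2⟩
          left_inv := fun z => Subtype.ext (inv_smul_smul _ _)
          right_inv := fun z => Subtype.ext (smul_inv_smul _ _) }
      map_one' := Equiv.ext fun z => Subtype.ext (one_smul G (z : Ω))
      map_mul' := fun a b => Equiv.ext fun z => Subtype.ext (mul_smul (a : G) (b : G) (z : Ω)) }
  have h3 : Nat.card {z : Ω // v • z = z} = 3 := hf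
  haveI := Fintype.ofFinite {z : Ω // v • z = z}
  have hperm : Nat.card (Equiv.Perm {z : Ω // v • z = z}) = 6 := by
    rw [Nat.card_eq_fintype_card, Fintype.card_perm, ← Nat.card_eq_fintype_card, h3]
    rfl
  have hrange : Nat.card φ.range ≤ 2 := by
    obtain ⟨i, hi⟩ := IsPGroup.iff_card.1
      ((IsPGroup.of_card hWc).of_surjective φ.rangeRestrict φ.rangeRestrict_surjective)
    have hd := Subgroup.card_subgroup_dvd_card φ.range
    rw [hperm, hi] at hd
    rw [hi]
    rcases i with _ | _ | i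
    · norm_num
    · norm_num
    · exfalso
      have : 4 ∣ 6 := (pow_dvd_pow 2 (show 2 ≤ i + 1 + 1 by omega)).trans hd
      omega
  set T := φ.ker with hTdef
  have hTc : Nat.card T * Nat.card φ.range = 2 ^ g := by
    rw [← hWc, hTdef, ← Subgroup.index_ker, Subgroup.card_mul_index]
  -- `T` fixes exactly the fixed points of `v`
  have hfix : ∀ y : T, y ≠ 1 → Nat.card (fixedBy Ω y) = 3 := by
    intro y hy
    have hyT : ∀ z : Ω, v • z = z → ((y : W) : G) • z = z := fun z hz =>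
      congrArg Subtype.val (DFunLike.congr_fun (MonoidHom.mem_ker.1 y.2) ⟨z, hz⟩)
    set y' := ((y : W) : G) with hy'
    have hy1 : y' ≠ 1 := fun h => hy (Subtype.ext (Subtype.ext h))
    obtain ⟨i, -, hi⟩ := (Nat.dvd_prime_pow Nat.prime_two).1
      (hWc ▸ Subgroup.orderOf_dvd_natCard W (y : W).2)
    rcases i with _ | i
    · exact absurd (orderOf_eq_one_iff.1 (by rw [hy', hi, pow_zero])) hy1
    set w := y' ^ (2 ^ i) with hw
    have hwo : orderOf w = 2 := by
      rw [hw, orderOf_pow_of_dvd (by positivity) (hy' ▸ hi ▸ pow_dvd_pow 2 (by omega)), hy', hi, pow_succ,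
        Nat.mul_div_cancel_left _ (by positivity)]
    have hle : ∀ z : Ω, y' • z = z → w • z = z := fun z hz => by
      rw [hw]
      clear_value y'
      induction (2 ^ i) with
      | zero => rw [pow_zero, one_smul]
      | succ j ih => rw [pow_succ, mul_smul, hz, ih]
    obtain ⟨h, hh⟩ := isConj_iff.1 (hone w hwo)
    have hwf : Nat.card {z : Ω // w • z = z} = 3 := by
      rw [← hf, ← fix_conj (Ω := Ω) v h, hh]
      rfl
    refine le_antisymm ?_ ?_
    · rw [← hwf]
      exact Nat.card_le_card_of_injective (fun z => ⟨z.1, hle z.1 z.2⟩)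
        fun z z' e => Subtype.ext (congrArg (fun t : {z : Ω // w • z = z} => t.1) e)
    · rw [← h3]
      exact Nat.card_le_card_of_injective (fun z => ⟨z.1, hyT z.1 z.2⟩)
        fun z z' e => Subtype.ext (congrArg (fun t : fixedBy Ω y => t.1) e)
  have hone' : Nat.card (fixedBy Ω (1 : T)) = 3 * p := by
    rw [← hΩ]
    exact Nat.card_congr ((Equiv.setCongr (by ext a; simp)).trans (Equiv.Set.univ Ω))
  have hsum := Char.sum_natCard_fixedBy (G := T) Ω
  rw [← Finset.add_sum_erase _ _ (Finset.mem_univ (1 : T)), hone',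
    Finset.sum_congr rfl (g := fun _ => 3) (fun y hy => hfix y (Finset.ne_of_mem_erase hy)), Finset.sum_const,
    Finset.card_erase_of_mem (Finset.mem_univ _), Finset.card_univ, ← Nat.card_eq_fintype_card,
    smul_eq_mul] at hsum
  have hdvd : Nat.card T ∣ 12 * U := by
    have h : Nat.card T ∣ 12 * U + 3 * Nat.card T := by
      refine ⟨Nat.card (Quotient (orbitRel T Ω)), ?_⟩
      rw [mul_comm (Nat.card T) (Nat.card (Quotient (orbitRel T Ω))), ← hsum]
      have := (Nat.card_pos : 0 < Nat.card T)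
      omega
    exact (Nat.dvd_add_left (dvd_mul_left (Nat.card T) 3)).1 h
  obtain ⟨j, hj⟩ := IsPGroup.iff_card.1 ((IsPGroup.of_card hWc).to_subgroup T)
  obtain ⟨i, hi⟩ := IsPGroup.iff_card.1
    ((IsPGroup.of_card hWc).of_surjective φ.rangeRestrict φ.rangeRestrict_surjective)
  rw [hj, hi, ← pow_add] at hTc
  have hji := Nat.pow_right_injective le_rfl hTc
  have hi1 : i ≤ 1 := by
    rw [hi] at hrange
    exact (Nat.pow_le_pow_iff_right (by norm_num : 1 < 2)).1 (by simpa using hrange)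
  rw [hj, hUe, show 12 * (2 ^ t * u) = 2 ^ (2 + t) * (3 * u) by rw [pow_add]; ring] at hdvd
  have hjt : 2 ^ j ∣ 2 ^ (2 + t) := Nat.Coprime.dvd_of_dvd_mul_right
    ((Nat.coprime_two_left.2 (Nat.odd_mul.2 ⟨⟨1, rfl⟩, hu'⟩)).pow_left j) hdvd
  have hjt' : j ≤ 2 + t := (Nat.pow_dvd_pow_iff_le_right (by norm_num : 1 < 2)).1 hjt
  have ht0 : t = 0 := by omega
  subst ht0
  have hg3 : g = 3 := by omega
  subst hg3
  rw [pow_zero, one_mul] at hUe
  obtain ⟨k, hk⟩ := hu'
  exact ⟨by omega, m, hm, hGc⟩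

/-- The case `d = 3 p - 1` does not occur. -/
theorem caseD (hG : ¬ IsMulCommutative G) (hΩ : Nat.card Ω = 3 * p) (hs : s = -1) (hd : d = 3 * p - 1)
    (hπ : ∀ g : G, (fix Ω g : ℂ) = 1 + (ξ : G → ℂ) g) : False := by
  classical
  have h5 := S.five
  obtain ⟨x, v, hx, hv, hvx⟩ := S.exists_pair
  obtain ⟨A, a, b, hA, -, -, -⟩ := D.exists_value S hx hv hvx
  obtain ⟨hone, -, hM⟩ := D.master S hx hv hvx hA
  have hdZ : (d : ℤ) = 3 * (p : ℤ) - 1 := by omega
  rw [hs, hdZ] at hM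
  have hf' : (fix Ω v : ℤ) = 1 + A := by
    have h := hπ v
    rw [hA] at h
    exact_mod_cast h
  rcases fix_inverting S hΩ hx hv hvx with hf | hf
  · have hA0 : A = 0 := by rw [hf] at hf'; omega
    subst hA0
    refine caseD_one S D hG hΩ hv hone hf ?_
    refine mul_left_cancel₀ (show (3 * (p : ℤ) - 1) ≠ 0 by omega) ?_
    linear_combination hM
  · have hA2 : A = 2 := by rw [hf] at hf'; omega
    subst hA2
    have heq : (Nat.card G : ℤ) * (3 * (p : ℤ) - 3) ^ 2 = p * (3 * (p : ℤ) - 1) * (3 * (p : ℤ) - 2) *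
        (Nat.card (Subgroup.centralizer ({v} : Set G)) : ℤ) ^ 2 := by linear_combination hM
    obtain ⟨hp8, m, hm, hGc⟩ := eight_of_three_D S D hG hΩ hv hone hf heq
    exact eight_caseD S.prime hp8 (p_dvd_card S hΩ) (eight_target hG hΩ hp8 hv hone hf hm hGc) heq

end

end Cfsg.Agent.ThreeP
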