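import Cfsg.Agent.Lib.DegreePTwo.BlkMain
import Cfsg.Agent.Lib.Small.SylowToolkit

/-!
# Degree `3p`: the group-theoretical facts

A group with Sylow `p`-subgroups of order `p` that are their own centralisers, of index 2 in their normalisers.
-/

set_option autoImplicit false
set_option linter.style.haveILetI false
set_option linter.unusedSectionVars false

namespace Cfsg.Agent.ThreeP

open Cfsg Cfsg.Agent.Char Cfsg.Agent.DegreePTwo

universe u v

variable {G : Type u} [Group G] [Fintype G] {p : ℕ}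

/-- The hypotheses on the Sylow `p`-subgroups. -/
structure Grp (G : Type u) [Group G] (p : ℕ) : Prop where
  prime : p.Prime
  five : 5 ≤ p
  sylow : ∀ P : Sylow p G, Nat.card (P : Subgroup G) = p
  normalizer : ∀ P : Sylow p G, Nat.card (Subgroup.normalizer ((P : Subgroup G) : Set G)) = 2 * p
  card_centralizer : ∀ x : G, orderOf x = p → Nat.card (Subgroup.centralizer ({x} : Set G)) = p

namespace Grp

variable (S : Grp G p)

include S

/-- A `p`-singular element has order `p`. -/
theorem singular {g : G} (hg : p ∣ orderOf g) : orderOf g = p := by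
  have hpow : orderOf (g ^ (orderOf g / p)) = p := orderOf_pow_orderOf_div (orderOf_pos g).ne' hg
  have hmem : g ∈ Subgroup.centralizer ({g ^ (orderOf g / p)} : Set G) :=
    Subgroup.mem_centralizer_singleton_iff.2 ((Commute.refl g).pow_right _).eq
  have h1 := Subgroup.orderOf_dvd_natCard _ hmem
  rw [S.card_centralizer _ hpow] at h1
  exact Nat.dvd_antisymm h1 hg

/-- The number of `p`-singular elements. -/
theorem card_singular :
    2 * p * Nat.card {g : G // p ∣ orderOf g} = Nat.card G * (p - 1) := by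
  classical
  haveI := Fact.mk S.prime
  have hone : ∀ (Q : Sylow p G) (g : G), g ∈ (Q : Subgroup G) → g ≠ 1 →
      orderOf g = p ∧ Subgroup.zpowers g = (Q : Subgroup G) := by
    intro Q g hgQ hg
    have h1 : orderOf g = p := (S.prime.eq_one_or_self_of_dvd _
      ((S.sylow Q) ▸ Subgroup.orderOf_dvd_natCard _ hgQ)).resolve_left
        (fun h => hg (orderOf_eq_one_iff.1 h))
    refine ⟨h1, Subgroup.eq_of_le_of_card_ge (Subgroup.zpowers_le.2 hgQ) ?_⟩
    rw [S.sylow Q, Nat.card_zpowers, h1]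
  let f : (Σ Q : Sylow p G, {g : (Q : Subgroup G) // g ≠ 1}) → {g : G // p ∣ orderOf g} :=
    fun z => ⟨(z.2.1 : G),
      by rw [(hone z.1 _ z.2.1.2 (fun h => z.2.2 (Subtype.ext h))).1]⟩
  have hf : Function.Bijective f := by
    constructor
    · rintro ⟨Q, g, hg⟩ ⟨Q', g', hg'⟩ h
      have h1 : (g : G) = g' := congrArg Subtype.val h
      have e : Q = Q' := by
        apply Sylow.ext
        rw [← (hone Q _ g.2 fun h => hg (Subtype.ext h)).2,
          ← (hone Q' _ g'.2 fun h => hg' (Subtype.ext h)).2, h1]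
      subst e
      have h2 : g = g' := Subtype.ext h1
      subst h2
      rfl
    · rintro ⟨g, hg⟩
      have h2 := S.singular hg
      have hp : IsPGroup p (Subgroup.zpowers g) :=
        IsPGroup.of_card (n := 1) (by rw [Nat.card_zpowers, h2, pow_one])
      obtain ⟨Q, hQ⟩ := hp.exists_le_sylow
      refine ⟨⟨Q, ⟨g, hQ (Subgroup.mem_zpowers g)⟩, fun h => ?_⟩, rfl⟩
      have : g = 1 := congrArg Subtype.val h
      rw [this, orderOf_one] at h2
      exact S.prime.ne_one h2.symm
  rw [← Nat.card_congr (Equiv.ofBijective f hf), Nat.card_sigma]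
  have hfib : ∀ Q : Sylow p G, Nat.card {g : (Q : Subgroup G) // g ≠ 1} = p - 1 := by
    intro Q
    rw [Nat.card_eq_fintype_card, Fintype.card_subtype_compl, Fintype.card_subtype_eq,
      ← Nat.card_eq_fintype_card, S.sylow Q]
  rw [Finset.sum_congr rfl (fun Q _ => hfib Q), Finset.sum_const, Finset.card_univ, smul_eq_mul,
    ← Nat.card_eq_fintype_card (α := Sylow p G)]
  obtain ⟨Q⟩ : Nonempty (Sylow p G) := inferInstance
  have hidx : (Subgroup.normalizer ((Q : Subgroup G) : Set G)).index * (2 * p) = Nat.card G := by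
    rw [← S.normalizer Q, Subgroup.index_mul_card]
  have hc : Nat.card (Sylow p G) = (Subgroup.normalizer ((Q : Subgroup G) : Set G)).index :=
    Sylow.card_eq_index_normalizer Q
  rw [hc, ← hidx]
  ring

theorem sum_singular [DecidablePred fun g : G => p ∣ orderOf g] :
    (p : ℂ) * ((Finset.univ.filter fun g : G => p ∣ orderOf g).card : ℂ) =
      (((p - 1) / 2 : ℕ) : ℂ) * (Nat.card G : ℂ) := by
  have h := S.card_singular
  rw [Nat.card_eq_fintype_card (α := {g : G // p ∣ orderOf g}), Fintype.card_subtype] at h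
  have h2 : (p - 1) = 2 * ((p - 1) / 2) := by
    have := S.five
    obtain ⟨r, hr⟩ := S.prime.odd_of_ne_two (by omega)
    omega
  rw [h2] at h
  have h3 : p * (Finset.univ.filter fun g : G => p ∣ orderOf g).card =
      (p - 1) / 2 * Nat.card G := by
    refine Nat.eq_of_mul_eq_mul_left (show 0 < 2 by norm_num) ?_
    rw [← mul_assoc, h]
    ring
  exact_mod_cast h3

theorem two_half : 2 * ((p - 1) / 2) + 1 = p := by
  have := S.five
  obtain ⟨r, hr⟩ := S.prime.odd_of_ne_two (by omega)
  omega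

theorem not_singular_one : ¬ p ∣ orderOf (1 : G) := by
  rw [orderOf_one]; exact S.prime.not_dvd_one

theorem not_singular_two {g : G} (h : orderOf g = 2) : ¬ p ∣ orderOf g := by
  rw [h]
  intro hd
  have := (Nat.prime_dvd_prime_iff_eq S.prime Nat.prime_two).1 hd
  have := S.five
  omega

/-- An element of order `p`, and an involution inverting it. -/
theorem exists_pair : ∃ x v : G, orderOf x = p ∧ orderOf v = 2 ∧ v * x * v⁻¹ = x⁻¹ := by
  haveI := Fact.mk S.prime
  obtain ⟨P⟩ : Nonempty (Sylow p G) := inferInstance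
  obtain ⟨x, hx⟩ := exists_prime_orderOf_dvd_card' (G := (P : Subgroup G)) p (by rw [S.sylow P])
  have hx' : orderOf (x : G) = p := by rw [Subgroup.orderOf_coe, hx]
  haveI := Fact.mk Nat.prime_two
  obtain ⟨v, hv⟩ := exists_prime_orderOf_dvd_card'
    (G := Subgroup.normalizer ((P : Subgroup G) : Set G)) 2 (by rw [S.normalizer P]; exact Dvd.intro _ rfl)
  have hv' : orderOf (v : G) = 2 := by rw [Subgroup.orderOf_coe, hv]
  refine ⟨x, v, hx', hv', ?_⟩
  have hzp : Subgroup.zpowers (x : G) = (P : Subgroup G) :=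
    Subgroup.eq_of_le_of_card_ge (Subgroup.zpowers_le.2 x.2) (by
      rw [S.sylow P, Nat.card_zpowers, hx'])
  have hmem : (v : G) * x * (v : G)⁻¹ ∈ Subgroup.zpowers (x : G) := by
    rw [hzp]
    exact (Subgroup.mem_normalizer_iff.1 v.2 x).1 x.2
  by_contra hne
  have hv2 : (v : G) * v = 1 := by rw [← sq, ← hv']; exact pow_orderOf_eq_one _
  set u := (x : G) * ((v : G) * x * (v : G)⁻¹) with hu
  have hu1 : u ≠ 1 := fun h => hne ((eq_inv_of_mul_eq_one_right (hu ▸ h)))
  have huz : u ∈ Subgroup.zpowers (x : G) := Subgroup.mul_mem _ (Subgroup.mem_zpowers _) hmem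
  have huo : orderOf u = p := (S.prime.eq_one_or_self_of_dvd _
    (hx' ▸ orderOf_dvd_of_mem_zpowers huz)).resolve_left fun h => hu1 (orderOf_eq_one_iff.1 h)
  have hcomm : Commute (x : G) ((v : G) * x * (v : G)⁻¹) := by
    obtain ⟨i, hi⟩ := hmem
    rw [← hi]
    exact Commute.zpow_right (Commute.refl _) i
  have hvu : (v : G) ∈ Subgroup.centralizer ({u} : Set G) := by
    refine Subgroup.mem_centralizer_singleton_iff.2 ?_
    have e' : (v : G)⁻¹ = v := inv_eq_of_mul_eq_one_right hv2
    have : u = ((v : G) * x * (v : G)⁻¹) * x := hcomm.eq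
    calc (v : G) * u = v * (x * (v * x * (v : G)⁻¹)) := by rw [hu]
      _ = ((v : G) * x * (v : G)⁻¹) * x * v := by rw [e']; simp only [mul_assoc, hv2, mul_one]
      _ = u * v := by rw [this]
  have := Subgroup.orderOf_dvd_natCard _ hvu
  rw [hv', S.card_centralizer _ huo] at this
  have h2p := (Nat.prime_dvd_prime_iff_eq Nat.prime_two S.prime).1 this
  have := S.five
  omega

/-- An involution inverting an element `x` of order `p` is conjugate to any other one by an element
of `⟨x⟩`. -/
theorem conj_inverting {x v w : G} (hx : orderOf x = p) (hv : orderOf v = 2)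
    (hvx : v * x * v⁻¹ = x⁻¹) (hwx : w * x * w⁻¹ = x⁻¹) :
    ∃ z ∈ Subgroup.zpowers x, w = z * v * z⁻¹ := by
  have hC : Subgroup.centralizer ({x} : Set G) = Subgroup.zpowers x := by
    refine (Subgroup.eq_of_le_of_card_ge ?_ ?_).symm
    · rw [Subgroup.zpowers_le, Subgroup.mem_centralizer_singleton_iff]
    · rw [S.card_centralizer _ hx, Nat.card_zpowers, hx]
  have hv2 : v * v = 1 := by rw [← sq, ← hv]; exact pow_orderOf_eq_one _
  have hmem : w * v ∈ Subgroup.zpowers x := by
    rw [← hC, Subgroup.mem_centralizer_singleton_iff]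
    have h1 : v * x = x⁻¹ * v := mul_inv_eq_iff_eq_mul.1 hvx
    have h2 : w * x⁻¹ = x * w := by
      have := congrArg (·⁻¹) hwx
      simp only [mul_inv_rev, inv_inv] at this
      rw [← mul_assoc] at this
      exact mul_inv_eq_iff_eq_mul.1 this
    rw [mul_assoc, h1, ← mul_assoc, h2, mul_assoc]
  obtain ⟨i, hi⟩ := hmem
  simp only at hi
  have hp2 : x ^ (((p + 1) / 2 : ℕ) : ℤ) * x ^ (((p + 1) / 2 : ℕ) : ℤ) = x := by
    rw [zpow_natCast, ← pow_add]
    have := S.two_half
    rw [show (p + 1) / 2 + (p + 1) / 2 = p + 1 by omega, pow_succ, ← hx, pow_orderOf_eq_one, one_mul]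
  refine ⟨x ^ ((((p + 1) / 2 : ℕ) : ℤ) * i), ⟨_, rfl⟩, ?_⟩
  set z := x ^ ((((p + 1) / 2 : ℕ) : ℤ) * i) with hz
  have hzz : z * z = w * v := by
    rw [← hi, hz, zpow_mul, ← ((Commute.refl (x ^ (((p + 1) / 2 : ℕ) : ℤ)))).mul_zpow, hp2]
  have hvz : v * z * v⁻¹ = z⁻¹ := by
    rw [hz, ← conj_zpow, hvx, inv_zpow]
  have e : v * z⁻¹ = z * v := by
    have := congrArg (·⁻¹) hvz
    simp only [mul_inv_rev, inv_inv] at this
    rw [← mul_assoc] at this
    exact mul_inv_eq_iff_eq_mul.1 this
  rw [mul_assoc, e, ← mul_assoc, hzz, mul_assoc, hv2, mul_one]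

/-- Sum of a class function over the normaliser of a Sylow subgroup. -/
theorem sum_normalizer {x v : G} (hx : orderOf x = p) (hv : orderOf v = 2)
    (hvx : v * x * v⁻¹ = x⁻¹) :
    ∃ D : Subgroup G, ∃ _ : Fintype D, Subgroup.zpowers x ≤ D ∧
      ∀ f : G → ℂ, Cfsg.IsClassFunction G f → ∀ c : ℂ, (∀ g, p ∣ orderOf g → f g = c) →
        ∑ g : D, f (g : G) = f 1 + ((p : ℂ) - 1) * c + (p : ℂ) * f v := by
  classical
  haveI := Fact.mk S.prime
  set D := Subgroup.normalizer ((Subgroup.zpowers x : Subgroup G) : Set G) with hD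
  have hZD : Subgroup.zpowers x ≤ D := Subgroup.le_normalizer
  have hzp : IsPGroup p (Subgroup.zpowers x) :=
    IsPGroup.of_card (n := 1) (by rw [Nat.card_zpowers, hx, pow_one])
  obtain ⟨Q, hQ⟩ := hzp.exists_le_sylow
  have hQe : Subgroup.zpowers x = (Q : Subgroup G) :=
    Subgroup.eq_of_le_of_card_ge hQ (by rw [S.sylow Q, Nat.card_zpowers, hx])
  have hcD : Nat.card D = 2 * p := by
    rw [hD]
    exact (congrArg (fun H : Subgroup G => Nat.card (Subgroup.normalizer (H : Set G))) hQe).trans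
      (S.normalizer Q)
  have hvD : v ∈ D := by
    rw [hD, Subgroup.mem_normalizer_iff]
    intro y
    constructor
    · rintro ⟨i, rfl⟩
      refine ⟨-i, ?_⟩
      simp only
      rw [← conj_zpow, hvx, inv_zpow, zpow_neg]
    · rintro ⟨i, hi⟩
      simp only at hi
      refine ⟨-i, ?_⟩
      simp only
      have : y = v⁻¹ * x ^ i * v := by rw [hi]; group
      have hvx' : v⁻¹ * x * v = x⁻¹ := by
        have := congrArg (fun t => v⁻¹ * t * v) hvx
        simp only [mul_assoc, inv_mul_cancel, mul_one, inv_mul_cancel_left] at this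
        calc v⁻¹ * x * v = (v⁻¹ * x⁻¹ * v)⁻¹ := by group
          _ = x⁻¹ := by rw [mul_assoc, ← this]
      rw [this, zpow_neg, ← inv_zpow, ← hvx']
      simpa using conj_zpow (a := v⁻¹) (b := x) (i := i)
  have hidx : (Subgroup.zpowers x).relIndex D = 2 := by
    have h1 := Subgroup.index_mul_card ((Subgroup.zpowers x).subgroupOf D)
    rw [Nat.card_congr (Subgroup.subgroupOfEquivOfLe hZD).toEquiv, Nat.card_zpowers, hx, hcD] at h1
    exact Nat.eq_of_mul_eq_mul_right S.prime.pos h1
  refine ⟨D, inferInstance, hZD, fun f hf c hc => ?_⟩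
  have hvZ : v ∉ Subgroup.zpowers x := fun h => by
    have h1 := (S.prime.eq_one_or_self_of_dvd _ (hx ▸ orderOf_dvd_of_mem_zpowers h))
    have := S.five
    omega
  have hout : ∀ g ∈ D, g ∉ Subgroup.zpowers x → f g = f v := by
    intro g hg hgZ
    have hmul : (⟨g, hg⟩ : D) * ⟨v, hvD⟩ ∈ (Subgroup.zpowers x).subgroupOf D :=
      (Subgroup.mul_mem_iff_of_index_two hidx).2 (by
        simp only [Subgroup.mem_subgroupOf]
        exact iff_of_false hgZ hvZ)
    have hgv : g * v ∈ Subgroup.zpowers x := hmul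
    obtain ⟨i, hi⟩ := hgv
    simp only at hi
    have hgx : g * x * g⁻¹ = x⁻¹ := by
      have e : g = x ^ i * v⁻¹ := by rw [hi]; group
      have hvi : v⁻¹ = v := inv_eq_of_mul_eq_one_right (by rw [← sq, ← hv]; exact pow_orderOf_eq_one _)
      rw [e, hvi]
      calc x ^ i * v * x * (x ^ i * v)⁻¹ = x ^ i * (v * x * v⁻¹) * (x ^ i)⁻¹ := by group
        _ = x ^ i * x⁻¹ * (x ^ i)⁻¹ := by rw [hvx]
        _ = x⁻¹ := by group
    obtain ⟨z, -, rfl⟩ := S.conj_inverting hx hv hvx hgx
    exact hf v z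
  have hin : ∀ g ∈ Subgroup.zpowers x, f g = if g = 1 then f 1 else c := by
    intro g hg
    split_ifs with h1
    · rw [h1]
    · refine hc g ?_
      rw [(S.prime.eq_one_or_self_of_dvd _ (hx ▸ orderOf_dvd_of_mem_zpowers hg)).resolve_left
        fun h => h1 (orderOf_eq_one_iff.1 h)]
  rw [sum_subgroup_filter D f, ← Finset.sum_filter_add_sum_filter_not _ (· ∈ Subgroup.zpowers x),
    Finset.filter_filter, Finset.filter_filter,
    Finset.sum_congr rfl (fun g hg => hin g (Finset.mem_filter.1 hg).2.2)]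
  rw [Finset.sum_congr rfl (fun g (hg : g ∈ Finset.univ.filter fun g => g ∈ D ∧ g ∉ Subgroup.zpowers x) =>
    hout g (Finset.mem_filter.1 hg).2.1 (Finset.mem_filter.1 hg).2.2), Finset.sum_const]
  have hZ : (Finset.univ.filter fun g => g ∈ D ∧ g ∈ Subgroup.zpowers x) =
      Finset.univ.filter fun g => g ∈ Subgroup.zpowers x :=
    Finset.filter_congr fun g _ => ⟨And.right, fun h => ⟨hZD h, h⟩⟩
  have hcZ : (Finset.univ.filter fun g => g ∈ Subgroup.zpowers x).card = p := by
    rw [← Fintype.card_subtype, ← Nat.card_eq_fintype_card]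
    exact (Nat.card_zpowers x).trans hx
  have hcDf : (Finset.univ.filter fun g => g ∈ D).card = 2 * p := by
    rw [← Fintype.card_subtype, ← Nat.card_eq_fintype_card]
    exact hcD
  have hcout : (Finset.univ.filter fun g => g ∈ D ∧ g ∉ Subgroup.zpowers x).card = p := by
    have h := Finset.card_filter_add_card_filter_not
      (s := Finset.univ.filter fun g => g ∈ D) (fun g => g ∈ Subgroup.zpowers x)
    rw [Finset.filter_filter, Finset.filter_filter, hZ, hcZ, hcDf] at h
    omega
  rw [hZ, hcout, Finset.sum_ite, Finset.sum_const, Finset.sum_const, nsmul_eq_mul, nsmul_eq_mul, nsmul_eq_mul]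
  have e1 : ((Finset.univ.filter fun g => g ∈ Subgroup.zpowers x).filter fun g => g = 1) = {1} := by
    ext g
    simp only [Finset.mem_filter, Finset.mem_univ, true_and, Finset.mem_singleton]
    exact ⟨And.right, fun h => ⟨h ▸ Subgroup.one_mem _, h⟩⟩
  have e2 : ((Finset.univ.filter fun g => g ∈ Subgroup.zpowers x).filter fun g => ¬ g = 1).card = p - 1 := by
    have h := Finset.card_filter_add_card_filter_not
      (s := Finset.univ.filter fun g => g ∈ Subgroup.zpowers x) (fun g => g = 1)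
    rw [e1, Finset.card_singleton, hcZ] at h
    omega
  rw [e1, e2, Finset.card_singleton, Nat.cast_sub S.prime.one_le]
  push_cast
  ring

/-- The pairs counted by the class multiplication formula. -/
theorem card_pairs {x v : G} (hx : orderOf x = p) (hv : orderOf v = 2) (hvx : v * x * v⁻¹ = x⁻¹)
    [DecidablePred fun j : G => IsConj (j⁻¹ * v * j * v) x] :
    (Finset.univ.filter fun j : G => IsConj (j⁻¹ * v * j * v) x).card =
      Nat.card (Subgroup.centralizer ({v} : Set G)) * Nat.card (Subgroup.centralizer ({v} : Set G)) := by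
  classical
  set C := Subgroup.centralizer ({v} : Set G) with hC
  have hv2 : v * v = 1 := by rw [← sq, ← hv]; exact pow_orderOf_eq_one _
  have hvi : v⁻¹ = v := inv_eq_of_mul_eq_one_right hv2
  have hCx : Subgroup.centralizer ({x} : Set G) = Subgroup.zpowers x := by
    refine (Subgroup.eq_of_le_of_card_ge ?_ ?_).symm
    · rw [Subgroup.zpowers_le, Subgroup.mem_centralizer_singleton_iff]
    · rw [S.card_centralizer _ hx, Nat.card_zpowers, hx]
  set z₀ := x ^ ((p + 1) / 2) with hz₀
  have hzz : z₀ * z₀ = x := by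
    rw [hz₀, ← pow_add]
    have := S.two_half
    rw [show (p + 1) / 2 + (p + 1) / 2 = p + 1 by omega, pow_succ, ← hx, pow_orderOf_eq_one, one_mul]
  have hvz : v * z₀⁻¹ = z₀ * v := by
    have e : v * z₀ * v⁻¹ = z₀⁻¹ := by rw [hz₀, ← conj_pow, hvx, inv_pow]
    calc v * z₀⁻¹ = (v * z₀ * v⁻¹)⁻¹ * v := by group
      _ = z₀ * v := by rw [e, inv_inv]
  -- the product of the conjugate with `v`
  have hprod : ∀ h k : C, ((h : G) * ((k : G) * z₀ * (k : G)⁻¹)⁻¹)⁻¹ * v *
      ((h : G) * ((k : G) * z₀ * (k : G)⁻¹)⁻¹) * v = (k : G) * x * (k : G)⁻¹ := by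
    intro h k
    have hh : (h : G)⁻¹ * v * h = v := by
      rw [mul_assoc, ← Subgroup.mem_centralizer_singleton_iff.1 h.2, inv_mul_cancel_left]
    have hk : (k : G)⁻¹ * v * k = v := by
      rw [mul_assoc, ← Subgroup.mem_centralizer_singleton_iff.1 k.2, inv_mul_cancel_left]
    calc _ = (k : G) * z₀ * (k : G)⁻¹ * ((h : G)⁻¹ * v * h) * ((k : G) * z₀⁻¹ * (k : G)⁻¹) * v := by group
      _ = (k : G) * z₀ * ((k : G)⁻¹ * v * k) * z₀⁻¹ * (k : G)⁻¹ * v := by rw [hh]; group
      _ = (k : G) * (z₀ * (v * z₀⁻¹)) * (k : G)⁻¹ * v := by rw [hk]; group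
      _ = (k : G) * (z₀ * z₀) * (v * (k : G)⁻¹ * v) := by rw [hvz]; group
      _ = (k : G) * x * (k : G)⁻¹ := by
        rw [hzz]
        congr 1
        calc v * (k : G)⁻¹ * v = ((k : G)⁻¹ * v * k) * (k : G)⁻¹ * v := by rw [hk]
          _ = (k : G)⁻¹ * (v * v) := by group
          _ = (k : G)⁻¹ := by rw [hv2, mul_one]
  let F : C × C → {j : G // j ∈ Finset.univ.filter fun j : G => IsConj (j⁻¹ * v * j * v) x} := fun hk =>
    ⟨(hk.1 : G) * ((hk.2 : G) * z₀ * (hk.2 : G)⁻¹)⁻¹, by
      rw [Finset.mem_filter, hprod hk.1 hk.2]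
      exact ⟨Finset.mem_univ _, (isConj_iff.2 ⟨(hk.2 : G), rfl⟩).symm⟩⟩
  have hF : Function.Bijective F := by
    constructor
    · rintro ⟨h, k⟩ ⟨h', k'⟩ e
      have e' : (h : G) * ((k : G) * z₀ * (k : G)⁻¹)⁻¹ = (h' : G) * ((k' : G) * z₀ * (k' : G)⁻¹)⁻¹ :=
        congrArg Subtype.val e
      have e2 : (k : G) * x * (k : G)⁻¹ = (k' : G) * x * (k' : G)⁻¹ := by
        rw [← hprod h k, ← hprod h' k', e']
      have hmem : (k' : G)⁻¹ * k ∈ Subgroup.centralizer ({x} : Set G) := by
        rw [Subgroup.mem_centralizer_singleton_iff]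
        calc (k' : G)⁻¹ * k * x = (k' : G)⁻¹ * ((k : G) * x * (k : G)⁻¹) * k := by group
          _ = x * ((k' : G)⁻¹ * k) := by rw [e2]; group
      have hkk : (k' : G)⁻¹ * k = 1 := by
        by_contra hne
        have hz : (k' : G)⁻¹ * k ∈ Subgroup.zpowers x := hCx ▸ hmem
        have ho : orderOf ((k' : G)⁻¹ * k) = p := (S.prime.eq_one_or_self_of_dvd _
          (hx ▸ orderOf_dvd_of_mem_zpowers hz)).resolve_left fun h => hne (orderOf_eq_one_iff.1 h)
        have hvk : v ∈ Subgroup.centralizer ({(k' : G)⁻¹ * k} : Set G) := by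
          have hCk : (k' : G)⁻¹ * k ∈ C := C.mul_mem (C.inv_mem k'.2) k.2
          rw [Subgroup.mem_centralizer_singleton_iff]
          exact (Subgroup.mem_centralizer_singleton_iff.1 hCk).symm
        have hd := Subgroup.orderOf_dvd_natCard _ hvk
        rw [hv, S.card_centralizer _ ho] at hd
        have := (Nat.prime_dvd_prime_iff_eq Nat.prime_two S.prime).1 hd
        have := S.five
        omega
      have hk' : k = k' := Subtype.ext (inv_mul_eq_one.1 hkk).symm
      subst hk'
      have hh' : h = h' := Subtype.ext (mul_right_cancel e')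
      rw [hh']
    · rintro ⟨j, hj⟩
      obtain ⟨g, hg⟩ := isConj_iff.1 (Finset.mem_filter.1 hj).2.symm
      set u := j⁻¹ * v * j with hu
      have hu2 : u * u = 1 := by
        calc u * u = j⁻¹ * (v * v) * j := by rw [hu]; group
          _ = 1 := by rw [hv2]; group
      have hui : u⁻¹ = u := inv_eq_of_mul_eq_one_right hu2
      have hB : g⁻¹ * v * g * x * (g⁻¹ * v * g)⁻¹ = x⁻¹ := by
        calc g⁻¹ * v * g * x * (g⁻¹ * v * g)⁻¹ = g⁻¹ * (v * (g * x * g⁻¹) * v⁻¹) * g := by group
          _ = g⁻¹ * (v⁻¹ * u⁻¹) * g := by rw [hg, hui, hvi]; simp only [mul_assoc, hv2, mul_one]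
          _ = g⁻¹ * (u * v)⁻¹ * g := by rw [mul_inv_rev u v]
          _ = x⁻¹ := by rw [← hg]; group
      obtain ⟨z, hzx, hz⟩ := S.conj_inverting hx hv hvx hB
      have hkC : g * z ∈ C := by
        rw [hC, Subgroup.mem_centralizer_singleton_iff]
        calc g * z * v = g * (z * v * z⁻¹) * z := by group
          _ = v * (g * z) := by rw [← hz]; group
      have hzcomm : z * x = x * z := by
        obtain ⟨i, rfl⟩ := hzx
        exact ((Commute.refl x).zpow_left i).eq
      have hkx : g * z * x * (g * z)⁻¹ = u * v := by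
        calc g * z * x * (g * z)⁻¹ = g * (z * x) * z⁻¹ * g⁻¹ := by group
          _ = g * x * g⁻¹ := by rw [hzcomm]; group
          _ = u * v := hg
      set Z := g * z * z₀ * (g * z)⁻¹ with hZ
      have hZv : Z * v * Z⁻¹ = u := by
        have hk : (g * z)⁻¹ * v * (g * z) = v := by
          rw [mul_assoc, ← Subgroup.mem_centralizer_singleton_iff.1 hkC, inv_mul_cancel_left]
        calc Z * v * Z⁻¹ = (g * z) * z₀ * ((g * z)⁻¹ * v * (g * z)) * z₀⁻¹ * (g * z)⁻¹ := by
              rw [hZ]; group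
          _ = (g * z) * (z₀ * (v * z₀⁻¹)) * (g * z)⁻¹ := by rw [hk]; group
          _ = (g * z) * (z₀ * z₀) * ((g * z)⁻¹ * ((g * z) * v * (g * z)⁻¹)) := by rw [hvz]; group
          _ = (g * z) * x * (g * z)⁻¹ * v := by
              rw [hzz, show (g * z) * v * (g * z)⁻¹ = v by
                rw [Subgroup.mem_centralizer_singleton_iff.1 hkC, mul_inv_cancel_right]]
              group
          _ = u := by rw [hkx, mul_assoc, hv2, mul_one]
      have hhC : j * Z ∈ C := by
        rw [hC, Subgroup.mem_centralizer_singleton_iff]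
        calc j * Z * v = j * (Z * v * Z⁻¹) * Z := by group
          _ = v * (j * Z) := by rw [hZv, hu]; group
      refine ⟨(⟨j * Z, hhC⟩, ⟨g * z, hkC⟩), Subtype.ext ?_⟩
      change j * Z * Z⁻¹ = j
      group
  have := Nat.card_congr (Equiv.ofBijective F hF)
  rw [Nat.card_prod] at this
  refine Eq.trans ?_ this.symm
  rw [Nat.card_eq_fintype_card, Fintype.card_coe]

/-- If a conjugate of `w` times `v` is conjugate to `x`, then `w` is conjugate to `v`. -/
theorem isConj_of_product {x v w j : G} (hx : orderOf x = p) (hv : orderOf v = 2) (hw : orderOf w = 2)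
    (hvx : v * x * v⁻¹ = x⁻¹) (hj : IsConj (j⁻¹ * w * j * v) x) : IsConj v w := by
  obtain ⟨k, hk⟩ := isConj_iff.1 hj
  set u := j⁻¹ * w * j with hu
  have hw2 : w * w = 1 := by rw [← sq, ← hw]; exact pow_orderOf_eq_one _
  have hv2 : v * v = 1 := by rw [← sq, ← hv]; exact pow_orderOf_eq_one _
  have hu2 : u * u = 1 := by
    calc u * u = j⁻¹ * (w * w) * j := by rw [hu]; group
      _ = 1 := by rw [hw2]; group
  have hui : u⁻¹ = u := inv_eq_of_mul_eq_one_right hu2
  have hvi : v⁻¹ = v := inv_eq_of_mul_eq_one_right hv2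
  have h1 : k * u * k⁻¹ * x * (k * u * k⁻¹)⁻¹ = x⁻¹ := by
    rw [← hk]
    calc k * u * k⁻¹ * (k * (u * v) * k⁻¹) * (k * u * k⁻¹)⁻¹ = k * ((u * u) * v * u⁻¹) * k⁻¹ := by group
      _ = (k * (u * v) * k⁻¹)⁻¹ := by rw [hu2, one_mul]; simp only [mul_inv_rev, inv_inv, hui, hvi, mul_assoc]
  obtain ⟨z, -, hz⟩ := S.conj_inverting hx hv hvx h1
  refine isConj_iff.2 ⟨j * k⁻¹ * z, ?_⟩
  calc j * k⁻¹ * z * v * (j * k⁻¹ * z)⁻¹ = j * k⁻¹ * (z * v * z⁻¹) * k * j⁻¹ := by group
    _ = j * u * j⁻¹ := by rw [← hz]; group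
    _ = w := by rw [hu]; group

end Grp

/-- The group facts for a simple group with Sylow normalizer of order `2 p`. -/
theorem exists_grp [IsSimpleGroup G] [Fact p.Prime] (h5 : 5 ≤ p) (P : Sylow p G) (hpG : p ∣ Nat.card G)
    (hN : Nat.card (Subgroup.normalizer ((P : Subgroup G) : Set G)) = 2 * p) : Grp G p := by
  classical
  have hp := (Fact.out : p.Prime)
  have hP : Nat.card (P : Subgroup G) = p := by
    have h1 : Nat.card (P : Subgroup G) ∣ 2 * p := hN ▸ Subgroup.card_dvd_of_le Subgroup.le_normalizer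
    rw [P.card_eq_multiplicity] at h1 ⊢
    have h2 := (hp.dvd_iff_one_le_factorization Nat.card_pos.ne').1 hpG
    have h3 : ¬ 2 ≤ (Nat.card G).factorization p := by
      intro h
      have h4 : p ^ 2 ∣ 2 * p := (pow_dvd_pow p h).trans h1
      rw [sq] at h4
      have := Nat.le_of_dvd (by norm_num) (Nat.dvd_of_mul_dvd_mul_right hp.pos h4)
      omega
    rw [show (Nat.card G).factorization p = 1 by omega, pow_one]
  have hsyl : ∀ Q : Sylow p G, Nat.card (Q : Subgroup G) = p := fun Q => by
    rw [Q.card_eq_multiplicity, ← P.card_eq_multiplicity, hP]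
  have hnor : ∀ Q : Sylow p G, Nat.card (Subgroup.normalizer ((Q : Subgroup G) : Set G)) = 2 * p := by
    intro Q
    rw [← hN]
    have e1 : Nat.card (Sylow p G) = (Subgroup.normalizer ((P : Subgroup G) : Set G)).index :=
      Sylow.card_eq_index_normalizer P
    have e2 : Nat.card (Sylow p G) = (Subgroup.normalizer ((Q : Subgroup G) : Set G)).index :=
      Sylow.card_eq_index_normalizer Q
    have h1 := Subgroup.index_mul_card (Subgroup.normalizer ((P : Subgroup G) : Set G))
    have h2 := Subgroup.index_mul_card (Subgroup.normalizer ((Q : Subgroup G) : Set G))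
    rw [← e1] at h1
    rw [← e2] at h2
    exact Nat.eq_of_mul_eq_mul_left Nat.card_pos (h2.trans h1.symm)
  have hcentP : ∀ Q : Sylow p G, Nat.card (Subgroup.centralizer ((Q : Subgroup G) : Set G)) = p := by
    intro Q
    haveI : IsCyclic (Q : Subgroup G) := isCyclic_of_prime_card (hsyl Q)
    set C := Subgroup.centralizer ((Q : Subgroup G) : Set G) with hC
    have hle : C ≤ Subgroup.normalizer ((Q : Subgroup G) : Set G) := Subgroup.centralizer_le_normalizer _
    have hQC : (Q : Subgroup G) ≤ C := fun a ha => by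
      rw [hC, Subgroup.mem_centralizer_iff]
      intro b hb
      obtain ⟨c, hc⟩ := IsCyclic.exists_generator (α := (Q : Subgroup G))
      obtain ⟨i, hi⟩ := hc ⟨a, ha⟩
      obtain ⟨j, hj⟩ := hc ⟨b, hb⟩
      have := (Commute.zpow_zpow (Commute.refl c) j i).eq
      simp only at hi hj
      rw [hi, hj] at this
      exact congrArg Subtype.val this
    obtain ⟨k, hk⟩ : p ∣ Nat.card C := hsyl Q ▸ Subgroup.card_dvd_of_le hQC
    have hd : Nat.card C ∣ 2 * p := hnor Q ▸ Subgroup.card_dvd_of_le hle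
    rw [hk, mul_comm 2 p] at hd
    rcases (Nat.dvd_prime Nat.prime_two).1 (Nat.dvd_of_mul_dvd_mul_left hp.pos hd) with rfl | rfl
    · rw [hk, mul_one]
    exfalso
    have he : C = Subgroup.normalizer ((Q : Subgroup G) : Set G) :=
      Subgroup.eq_of_le_of_card_ge hle (by rw [hnor Q, hk, mul_comm])
    have hcompl := MonoidHom.ker_transferSylow_isComplement' Q he.ge
    have h1 := hcompl.card_mul
    rcases (MonoidHom.normal_ker (MonoidHom.transferSylow Q he.ge)).eq_bot_or_eq_top with h | h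
    · rw [h, Subgroup.card_bot, one_mul, hsyl Q] at h1
      have := Subgroup.card_le_card_group (Subgroup.normalizer ((Q : Subgroup G) : Set G))
      rw [hnor Q] at this
      omega
    · rw [h, Subgroup.card_top, hsyl Q] at h1
      have h2 : p = 1 := Nat.eq_of_mul_eq_mul_left (Nat.card_pos (α := G)) (by omega)
      omega
  refine ⟨hp, h5, hsyl, hnor, fun x hx => ?_⟩
  have hpx : IsPGroup p (Subgroup.zpowers x) :=
    IsPGroup.of_card (n := 1) (by rw [Nat.card_zpowers, hx, pow_one])
  obtain ⟨Q, hQ⟩ := hpx.exists_le_sylow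
  have hQ' : Subgroup.zpowers x = (Q : Subgroup G) :=
    Subgroup.eq_of_le_of_card_ge hQ (by rw [hsyl Q, Nat.card_zpowers, hx])
  have e : Subgroup.centralizer ({x} : Set G) = Subgroup.centralizer ((Q : Subgroup G) : Set G) := by
    rw [← Subgroup.centralizer_closure ({x} : Set G), ← Subgroup.zpowers_eq_closure]
    exact congrArg (fun H : Subgroup G => Subgroup.centralizer (H : Set G)) hQ'
  rw [e]
  exact hcentP Q

section Action

open MulAction

variable {Ω : Type v} [MulAction G Ω]

/-- The number of fixed points. -/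
noncomputable def fix (Ω : Type v) [MulAction G Ω] (g : G) : ℕ := Nat.card (fixedBy Ω g)

theorem fix_conj (g h : G) : fix Ω (h * g * h⁻¹) = fix Ω g := by
  refine Nat.card_congr ((MulAction.toPerm h⁻¹).subtypeEquiv fun a => ?_)
  simp only [mem_fixedBy, MulAction.toPerm_apply]
  rw [mul_smul, mul_smul, smul_eq_iff_eq_inv_smul]

theorem fix_one : fix Ω (1 : G) = Nat.card Ω :=
  Nat.card_congr ((Equiv.setCongr (by ext a; simp)).trans (Equiv.Set.univ Ω))

variable [IsPretransitive G Ω] [Finite Ω] (S : Grp G p) (hΩ : Nat.card Ω = 3 * p)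

include S hΩ

theorem nonempty_points : Nonempty Ω := by
  have := S.five
  exact (Nat.card_pos_iff.1 (by omega)).1

theorem p_dvd_card : p ∣ Nat.card G := by
  obtain ⟨a⟩ := nonempty_points S hΩ
  exact (Dvd.intro_left 3 rfl).trans ((index_stabilizer_of_transitive G a).trans hΩ ▸ Subgroup.index_dvd_card _)

theorem three_dvd_card : 3 ∣ Nat.card G := by
  obtain ⟨a⟩ := nonempty_points S hΩ
  exact (Dvd.intro p rfl).trans ((index_stabilizer_of_transitive G a).trans hΩ ▸ Subgroup.index_dvd_card _)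

theorem no_fixed {g : G} (hg : p ∣ orderOf g) (a : Ω) : g • a ≠ a := by
  intro h
  haveI := Fact.mk S.prime
  have hmem : g ∈ stabilizer G a := h
  have h1 : p * p ∣ Nat.card G := by
    rw [← Subgroup.card_mul_index (stabilizer G a), index_stabilizer_of_transitive, hΩ]
    exact Nat.mul_dvd_mul (hg.trans (Subgroup.orderOf_dvd_natCard _ hmem)) (Dvd.intro_left 3 rfl)
  rw [← sq] at h1
  obtain ⟨P⟩ : Nonempty (Sylow p G) := inferInstance
  have h3 := (S.prime.pow_dvd_iff_le_factorization Nat.card_pos.ne').1 h1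
  have h4 := P.card_eq_multiplicity
  rw [S.sylow P] at h4
  have : (Nat.card G).factorization p = 1 :=
    Nat.pow_right_injective S.prime.two_le (show p ^ _ = p ^ 1 by rw [← h4, pow_one])
  omega

theorem fix_singular {g : G} (hg : p ∣ orderOf g) : fix Ω g = 0 := by
  have : IsEmpty (fixedBy Ω g) := ⟨fun a => no_fixed S hΩ hg a a.2⟩
  exact Nat.card_of_isEmpty

/-- An inverting involution has an odd number of fixed points, at most three. -/
theorem fix_inverting {x v : G} (hx : orderOf x = p) (hv : orderOf v = 2) (hvx : v * x * v⁻¹ = x⁻¹) :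
    fix Ω v = 1 ∨ fix Ω v = 3 := by
  haveI := Fact.mk S.prime
  have hodd : fix Ω v % 2 = 1 := by
    haveI := Fact.mk Nat.prime_two
    have hpg : IsPGroup 2 (Subgroup.zpowers v) :=
      IsPGroup.of_card (n := 1) (by rw [Nat.card_zpowers, hv, pow_one])
    have h := hpg.card_modEq_card_fixedPoints Ω
    have he : fixedPoints (Subgroup.zpowers v) Ω = fixedBy Ω v := by
      ext a
      refine ⟨fun ha => ha ⟨v, Subgroup.mem_zpowers v⟩, fun ha z => ?_⟩
      obtain ⟨i, hi⟩ := Subgroup.mem_zpowers_iff.1 z.2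
      show (z : G) • a = a
      rw [← hi]
      exact zpow_smul_eq_iff_minimalPeriod_dvd.2
        ((Int.natCast_dvd_natCast.2 (Function.IsPeriodicPt.minimalPeriod_dvd (n := 1) ha)).trans (one_dvd _))
    rw [he, hΩ] at h
    obtain ⟨r, hr⟩ := S.prime.odd_of_ne_two (by have := S.five; omega)
    have h' : 3 * p % 2 = fix Ω v % 2 := h
    omega
  have hle : fix Ω v ≤ 3 := by
    let F : fixedBy Ω v × Subgroup.zpowers x → Ω := fun z => (z.2 : G) • (z.1 : Ω)
    have hF : Function.Injective F := by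
      rintro ⟨⟨a, ha⟩, ⟨_, i, rfl⟩⟩ ⟨⟨b, hb⟩, ⟨_, j, rfl⟩⟩ h
      simp only [F] at h
      have hvz : ∀ k : ℤ, v * x ^ k = x ^ (-k) * v := fun k => by
        rw [zpow_neg, ← inv_zpow, ← hvx, conj_zpow, inv_mul_cancel_right]
      have h' : x ^ (-i) • a = x ^ (-j) • b := by
        have h2 := congrArg (fun c => v • c) h
        simp only [← mul_smul, hvz] at h2
        rwa [mul_smul, mul_smul, show v • a = a from ha, show v • b = b from hb] at h2
      have hb' : b = x ^ (i - j) • a := by
        rw [zpow_sub, (Commute.zpow_zpow (Commute.refl x) i j).inv_right.eq, mul_smul, h, inv_smul_smul]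
      have h3 : x ^ (2 * (i - j)) • a = a := by
        have e : x ^ (-i) • a = x ^ (-j + (i - j)) • a := by rw [h', hb', ← mul_smul, ← zpow_add]
        rw [smul_eq_iff_eq_inv_smul, ← mul_smul, ← zpow_neg, ← zpow_add] at e
        conv_rhs => rw [e]
        congr 2
        ring
      have h4 : x ^ (2 * (i - j)) = 1 := by
        by_contra hne
        refine no_fixed S hΩ ?_ a h3
        rw [(S.prime.eq_one_or_self_of_dvd _
          (hx ▸ orderOf_dvd_of_mem_zpowers ⟨_, rfl⟩)).resolve_left fun e => hne (orderOf_eq_one_iff.1 e)]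
      rw [← orderOf_dvd_iff_zpow_eq_one, hx] at h4
      have h5 : (p : ℤ) ∣ i - j :=
        ((Nat.prime_iff_prime_int.1 S.prime).dvd_or_dvd h4).resolve_left fun e => by
          have := Int.le_of_dvd (by norm_num) e
          have := S.five
          omega
      have h6 : x ^ i = x ^ j := by
        rw [← hx, orderOf_dvd_iff_zpow_eq_one, zpow_sub, mul_inv_eq_one] at h5
        exact h5
      rw [h6] at h
      obtain rfl : a = b := smul_left_cancel _ h
      exact Prod.ext rfl (Subtype.ext h6)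
    have h := Nat.card_le_card_of_injective F hF
    rw [Nat.card_prod, Nat.card_zpowers, hx, hΩ] at h
    exact Nat.le_of_mul_le_mul_right h S.prime.pos
  omega

variable [IsSimpleGroup G] [FaithfulSMul G Ω]

theorem four_dvd_sub_fix (hG : ¬ IsMulCommutative G) {v : G} (hv : orderOf v = 2) :
    4 ∣ 3 * p - fix Ω v := by
  classical
  haveI := Fintype.ofFinite Ω
  set f := MulAction.toPermHom G Ω
  have hinj : Function.Injective f := fun g g' h => FaithfulSMul.eq_of_smul_eq_smul fun a =>
    DFunLike.congr_fun h a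
  have ho : orderOf (f v) = 2 := by rw [orderOf_injective f hinj, hv]
  have hs : Equiv.Perm.sign (f v) = 1 := Small.hom_comm_eq_one hG (Equiv.Perm.sign.comp f) v
  have h := Small.four_dvd_sub_fixed ho hs
  rwa [← Nat.card_eq_fintype_card, hΩ] at h

end Action

/-- The order of a nonabelian simple group with an involution is divisible by four. -/
theorem four_dvd_card [IsSimpleGroup G] (hG : ¬ IsMulCommutative G) {v : G} (hv : orderOf v = 2) :
    4 ∣ Nat.card G := by
  have h := Small.four_dvd_moved hG (H := (⊥ : Subgroup G)) bot_ne_top hv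
  have h0 : IsEmpty (MulAction.fixedBy (G ⧸ (⊥ : Subgroup G)) v) := ⟨fun a => by
    obtain ⟨⟨g⟩, hg⟩ := a
    have h1 : ((v * g : G) : G ⧸ (⊥ : Subgroup G)) = (g : G ⧸ (⊥ : Subgroup G)) := hg
    rw [QuotientGroup.eq, Subgroup.mem_bot, inv_mul_eq_one, mul_eq_right] at h1
    rw [h1, orderOf_one] at hv
    omega⟩
  rwa [Nat.card_of_isEmpty, Nat.sub_zero, Subgroup.index_bot] at h

/-- With one class of involutions the centraliser of an involution contains a Sylow 2-subgroup. -/
theorem exists_two [IsSimpleGroup G] (hG : ¬ IsMulCommutative G) {v : G} (hv : orderOf v = 2)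
    (hone : ∀ w : G, orderOf w = 2 → IsConj v w) :
    ∃ g m c : ℕ, 2 ≤ g ∧ Odd m ∧ Odd c ∧ Nat.card G = 2 ^ g * m ∧
      Nat.card (Subgroup.centralizer ({v} : Set G)) = 2 ^ g * c := by
  classical
  haveI := Fact.mk Nat.prime_two
  obtain ⟨P⟩ : Nonempty (Sylow 2 G) := inferInstance
  obtain ⟨g, hg⟩ := IsPGroup.iff_card.1 P.isPGroup'
  obtain ⟨m, hm⟩ : 2 ^ g ∣ Nat.card G := hg ▸ Subgroup.card_subgroup_dvd_card _
  have hmodd : Odd m := by
    rw [← Nat.not_even_iff_odd, even_iff_two_dvd]
    intro hd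
    refine P.not_dvd_index ?_
    have h1 := (P : Subgroup G).index_mul_card
    rw [hg, hm, mul_comm] at h1
    rwa [Nat.eq_of_mul_eq_mul_left (show 0 < 2 ^ g by positivity) h1]
  have hg2 : 2 ≤ g := by
    by_contra h
    have h4 := four_dvd_card hG hv
    rw [hm] at h4
    have : g = 0 ∨ g = 1 := by omega
    obtain ⟨r, rfl⟩ := hmodd
    rcases this with rfl | rfl <;> omega
  haveI : Nontrivial (P : Subgroup G) := Finite.one_lt_card_iff_nontrivial.1
    (hg ▸ Nat.one_lt_two_pow (by omega))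
  haveI := P.isPGroup'.center_nontrivial
  have hdvd : 2 ∣ Nat.card (Subgroup.center (P : Subgroup G)) := by
    obtain ⟨k, hk⟩ := IsPGroup.iff_card.1 (P.isPGroup'.to_subgroup (Subgroup.center (P : Subgroup G)))
    have h1 := (Finite.one_lt_card : 1 < Nat.card (Subgroup.center (P : Subgroup G)))
    rw [hk] at h1 ⊢
    exact dvd_pow_self 2 (by rintro rfl; simp at h1)
  obtain ⟨z, hz⟩ := exists_prime_orderOf_dvd_card' 2 hdvd
  have hz' : orderOf ((z : (P : Subgroup G)) : G) = 2 := by rw [Subgroup.orderOf_coe, Subgroup.orderOf_coe, hz]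
  obtain ⟨h, hh⟩ := isConj_iff.1 (hone _ hz').symm
  have hsub : (P : Subgroup G).map (MulAut.conj h).toMonoidHom ≤ Subgroup.centralizer ({v} : Set G) := by
    rintro _ ⟨y, hy, rfl⟩
    rw [Subgroup.mem_centralizer_singleton_iff]
    have hc : (y : G) * ((z : (P : Subgroup G)) : G) = ((z : (P : Subgroup G)) : G) * y :=
      congrArg Subtype.val (Subgroup.mem_center_iff.1 z.2 ⟨y, hy⟩)
    simp only [MulEquiv.coe_toMonoidHom, MulAut.conj_apply]
    rw [← hh]
    calc h * y * h⁻¹ * (h * ((z : (P : Subgroup G)) : G) * h⁻¹)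
        = h * (y * ((z : (P : Subgroup G)) : G)) * h⁻¹ := by group
      _ = h * ((z : (P : Subgroup G)) : G) * h⁻¹ * (h * y * h⁻¹) := by rw [hc]; group
  have hcP : Nat.card ((P : Subgroup G).map (MulAut.conj h).toMonoidHom) = 2 ^ g := by
    rw [Subgroup.card_map_of_injective (MulAut.conj h).injective, hg]
  obtain ⟨c, hc⟩ : 2 ^ g ∣ Nat.card (Subgroup.centralizer ({v} : Set G)) :=
    hcP ▸ Subgroup.card_dvd_of_le hsub
  refine ⟨g, m, c, hg2, hmodd, ?_, hm, hc⟩
  have h1 : c ∣ m := by
    refine Nat.dvd_of_mul_dvd_mul_left (show 0 < 2 ^ g by positivity) ?_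
    rw [← hc, ← hm]
    exact Subgroup.card_subgroup_dvd_card _
  exact hmodd.of_dvd_nat h1

end Cfsg.Agent.ThreeP
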