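import Cfsg.Agent.Lib.ThreeP.Core
import Cfsg.Agent.Lib.DegreePTwo.Chars
import Cfsg.Agent.Lib.Blocks.BlockOrth

/-!
# Degree `3p`: the principal block of a simple group with Sylow normaliser of order `2p`

The block consists of `1`, a character `ξ` of degree `d` with value `s = ±1` on the singular elements and
`(p - 1) / 2` characters of degree `e`. The class multiplication formula gives the master equation.
-/

set_option autoImplicit false
set_option linter.style.haveILetI false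
set_option linter.unusedSectionVars false

namespace Cfsg.Agent.ThreeP

open Cfsg Cfsg.Agent.Char Cfsg.Agent.DegreePTwo
open scoped ComplexConjugate

universe u

variable {G : Type u} [Group G] [Fintype G] {p : ℕ} {one ξ : IrrCharacter G}
  {Y : Finset (IrrCharacter G)} {s ε : ℤ} {d e : ℕ}

/-- The data of the principal block. -/
structure Dat (p : ℕ) (one ξ : IrrCharacter G) (Y : Finset (IrrCharacter G)) (s ε : ℤ) (d e : ℕ) :
    Prop where
  one_apply : ∀ g, (one : G → ℂ) g = 1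
  ne : one ≠ ξ
  one_notMem : one ∉ Y
  xi_notMem : ξ ∉ Y
  card_Y : Y.card = (p - 1) / 2
  sign : s = 1 ∨ s = -1
  signY : ε = 1 ∨ ε = -1
  deg : (ξ : G → ℂ) 1 = (d : ℂ)
  two_le : 2 ≤ d
  dmod : (p : ℤ) ∣ (d : ℤ) - s
  sing : ∀ g : G, p ∣ orderOf g → (ξ : G → ℂ) g = (s : ℂ)
  degY : ∀ χ ∈ Y, (χ : G → ℂ) 1 = (e : ℂ)
  pos : 0 < e
  erel : ε * (e : ℤ) = 1 + s * (d : ℤ)
  regY : ∀ χ ∈ Y, ∀ g : G, ¬ p ∣ orderOf g → (ε : ℂ) * (χ : G → ℂ) g = 1 + (s : ℂ) * (ξ : G → ℂ) g
  ker : ∀ g : G, (ξ : G → ℂ) g = (d : ℂ) → g = 1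

/-- A nonprincipal irreducible character of a simple nonabelian group is not linear. -/
theorem not_linear [IsSimpleGroup G] (hG : ¬ IsMulCommutative G) (ψ : IrrCharacter G)
    (hψ : (ψ : G → ℂ) ≠ fun _ => 1) : charDegree (ψ : G → ℂ) ≠ 1 := by
  intro h
  have h1 : (ψ : G → ℂ) 1 = 1 := by rw [irr_degree, h, Nat.cast_one]
  obtain ⟨f, hf⟩ := exists_hom_of_degree_one (IsIrrCharacter.isCharacter ψ.2) h1
  rcases (MonoidHom.normal_ker f).eq_bot_or_eq_top with hk | hk
  · have hinj : Function.Injective f := (MonoidHom.ker_eq_bot_iff f).1 hk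
    exact hG ⟨⟨fun a b => hinj (by rw [map_mul, map_mul, mul_comm])⟩⟩
  · refine hψ (funext fun g => ?_)
    have hg : g ∈ f.ker := hk ▸ Subgroup.mem_top g
    simp [hf, MonoidHom.mem_ker.1 hg]

/-- Faithfulness of a nonlinear character of a simple group. -/
theorem eq_one_of_apply_eq [IsSimpleGroup G] (ψ : IrrCharacter G) {n : ℕ}
    (hd : (ψ : G → ℂ) 1 = (n : ℂ)) {x : G} (hx : (ψ : G → ℂ) x ≠ (n : ℂ)) {g : G}
    (hg : (ψ : G → ℂ) g = (n : ℂ)) : g = 1 := by
  obtain ⟨m, ρ, hρ, heq⟩ := ψ.2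
  have hm : (m : ℂ) = (n : ℂ) := by
    rw [← hd, ← heq, Representation.char_one]
    simp
  have hm0 : m ≠ 0 := by
    rintro rfl
    exact IsIrrCharacter.one_ne_zero ψ.2 (by rw [hd, ← hm, Nat.cast_zero])
  have hg' : ρ g = 1 := by
    obtain ⟨ω, hω⟩ := (norm_char_eq_iff ρ g).1 (by rw [heq, hg, ← hm, Complex.norm_natCast]; simp)
    have h1 : ρ.character g = ω * (m : ℂ) := by
      rw [Representation.character, hω, map_smul, LinearMap.trace_id]
      simp
    have hω1 : ω = 1 := by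
      refine mul_right_cancel₀ (Nat.cast_ne_zero.2 hm0 : (m : ℂ) ≠ 0) ?_
      rw [← h1, heq, hg, one_mul, hm]
    rw [hω, hω1, one_smul]
    rfl
  rcases (MonoidHom.normal_ker ρ).eq_bot_or_eq_top with hk | hk
  · have : g ∈ MonoidHom.ker ρ := MonoidHom.mem_ker.2 hg'
    rw [hk, Subgroup.mem_bot] at this
    exact this
  · exfalso
    refine hx ?_
    have hx1 : ρ x = 1 := MonoidHom.mem_ker.1 (hk ▸ Subgroup.mem_top x)
    rw [← heq, Representation.character, hx1, ← hm]
    simp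

/-- Existence of the data. -/
theorem exists_dat (S : Grp G p) [IsSimpleGroup G] (hG : ¬ IsMulCommutative G) :
    ∃ (one ξ : IrrCharacter G) (Y : Finset (IrrCharacter G)) (s ε : ℤ) (d e : ℕ),
      Dat p one ξ Y s ε d e := by
  classical
  haveI := Fact.mk S.prime
  have hp := S.prime
  have h5 := S.five
  have hp2 : p ≠ 2 := by omega
  obtain ⟨P⟩ : Nonempty (Sylow p G) := inferInstance
  have hP := S.sylow P
  obtain ⟨M, hM⟩ := Cfsg.Agent.GlaubermanMod.exists_isPModular p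
  haveI := Agent.Blocks.IsPModular.isPrime hM
  obtain ⟨x, v, hx, hv, hvx⟩ := S.exists_pair
  have hgen : ∀ g : G, p ∣ orderOf g → ∃ Q : Sylow p G, Subgroup.zpowers g = (Q : Subgroup G) := by
    intro g hg
    have hgo := S.singular hg
    have hpx : IsPGroup p (Subgroup.zpowers g) :=
      IsPGroup.of_card (n := 1) (by rw [Nat.card_zpowers, hgo, pow_one])
    obtain ⟨Q, hQ⟩ := hpx.exists_le_sylow
    exact ⟨Q, Subgroup.eq_of_le_of_card_ge hQ (by rw [S.sylow Q, Nat.card_zpowers, hgo])⟩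
  have hcP : Nat.card (Subgroup.centralizer ((P : Subgroup G) : Set G)) = p := by
    obtain ⟨y, hy⟩ := exists_prime_orderOf_dvd_card' (G := (P : Subgroup G)) p (by rw [hP])
    have hy' : orderOf (y : G) = p := by rw [Subgroup.orderOf_coe, hy]
    have hz : Subgroup.zpowers (y : G) = (P : Subgroup G) :=
      Subgroup.eq_of_le_of_card_ge (Subgroup.zpowers_le.2 y.2) (by rw [hP, Nat.card_zpowers, hy'])
    have e : Subgroup.centralizer ({(y : G)} : Set G) = Subgroup.centralizer ((P : Subgroup G) : Set G) := by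
      rw [← Subgroup.centralizer_closure ({(y : G)} : Set G), ← Subgroup.zpowers_eq_closure]
      exact congrArg (fun H : Subgroup G => Subgroup.centralizer (H : Set G)) hz
    rw [← e]
    exact S.card_centralizer _ hy'
  have he : (Subgroup.centralizer ((P : Subgroup G) : Set G)).relIndex
      (Subgroup.normalizer ((P : Subgroup G) : Set G)) = 2 := by
    have h1 := Subgroup.index_mul_card ((Subgroup.centralizer ((P : Subgroup G) : Set G)).subgroupOf
      (Subgroup.normalizer ((P : Subgroup G) : Set G)))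
    rw [Nat.card_congr (Subgroup.subgroupOfEquivOfLe (Subgroup.centralizer_le_normalizer _)).toEquiv,
      hcP, S.normalizer P] at h1
    exact Nat.eq_of_mul_eq_mul_right hp.pos h1
  obtain ⟨X, Y, hXY, hdisj, hX, hY, sg, ε, hXs, hε, hYdeg, -, hrel⟩ :=
    Cfsg.Agent.S4441.result p M hM hp2 P hP 2 he
  let one : IrrCharacter G := Cfsg.Agent.Char.principal G
  have h1v : ∀ g, (one : G → ℂ) g = 1 := fun g => rfl
  have h1deg : charDegree (one : G → ℂ) = 1 := by
    rw [charDegree, h1v, Complex.one_re, Nat.floor_one]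
  have h1X : one ∈ X := by
    have hmem : one ∈ X ∪ Y := by rw [← hXY]; exact Agent.Blocks.principal_mem_principalBlock
    rcases hmem with h | h
    · exact h
    exfalso
    have h' := Int.modEq_iff_dvd.1 (hYdeg one h)
    rw [h1deg] at h'
    rcases hε with rfl | rfl
    · have := Int.le_of_dvd (by norm_num) h'
      push_cast at this
      omega
    · have := Int.le_of_dvd (by norm_num) (Int.dvd_neg.2 h')
      push_cast at this
      omega
  obtain ⟨ξ, hξ1, hXeq⟩ : ∃ ξ, ξ ≠ one ∧ X = {one, ξ} := by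
    rw [Nat.card_coe_set_eq] at hX
    obtain ⟨a, b, hab, rfl⟩ := Set.ncard_eq_two.1 hX
    rcases h1X with h | h
    · exact ⟨b, fun e => hab (h.symm.trans e.symm), by rw [h]⟩
    · rw [Set.mem_singleton_iff] at h
      exact ⟨a, fun e => hab (e.trans h), by rw [h, Set.pair_comm]⟩
  have hξX : ξ ∈ X := by rw [hXeq]; simp
  have hs1 : sg one = 1 := by
    obtain ⟨hsgn, hcg, -⟩ := hXs one h1X
    rcases hsgn with h | h
    · exact h
    · exfalso
      rw [h1deg, h] at hcg
      have h' := Int.le_of_dvd (by norm_num) (Int.dvd_neg.2 (Int.modEq_iff_dvd.1 hcg))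
      push_cast at h'
      omega
  obtain ⟨hsgn, hξmod, hξval⟩ := hXs ξ hξX
  set s := sg ξ with hsdef
  have hξsing : ∀ g : G, p ∣ orderOf g → (ξ : G → ℂ) g = (s : ℂ) := by
    intro g hg
    obtain ⟨Q, hQ⟩ := hgen g hg
    obtain ⟨c, hc⟩ := MulAction.exists_smul_eq G Q P
    have hmem : c * g * c⁻¹ ∈ (P : Subgroup G) := by
      rw [← hc, Sylow.coe_subgroup_smul, Subgroup.mem_pointwise_smul_iff_inv_smul_mem, ← hQ]
      have : (MulAut.conj c)⁻¹ • (c * g * c⁻¹) = g := by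
        rw [inv_smul_eq_iff]; rfl
      rw [this]
      exact Subgroup.mem_zpowers g
    have h := hξval (c * g * c⁻¹) hmem (fun e => by
      have : g = 1 := conj_eq_one_iff.1 e
      rw [this, orderOf_one] at hg
      exact hp.not_dvd_one hg) 1 (Subgroup.one_mem _) (by rw [orderOf_one]; exact hp.not_dvd_one)
    rw [mul_one] at h
    rw [← h]
    exact (IsCharacter.isClassFunction (IsIrrCharacter.isCharacter ξ.2) g c).symm
  have hrel' : ∀ χ ∈ Y, ∀ g : G, ¬ p ∣ orderOf g →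
      (ε : ℂ) * (χ : G → ℂ) g = 1 + (s : ℂ) * (ξ : G → ℂ) g := by
    intro χ hχ g hg
    rw [hrel χ hχ g hg, hXeq, finsum_mem_pair hξ1.symm, hs1, h1v, hsdef]
    simp
  set Yf := (Set.toFinite Y).toFinset with hYf
  have hYcard : Yf.card = (p - 1) / 2 := by
    rw [hYf, ← Set.ncard_eq_toFinset_card Y (Set.toFinite Y), ← Nat.card_coe_set_eq, hY]
  have hYmem : ∀ χ, χ ∈ Yf ↔ χ ∈ Y := fun χ => Set.Finite.mem_toFinset _
  obtain ⟨χ₀, hχ₀⟩ : ∃ χ, χ ∈ Y := by
    obtain ⟨χ, hχ⟩ := Finset.card_pos.1 (show 0 < Yf.card by rw [hYcard]; omega)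
    exact ⟨χ, (hYmem χ).1 hχ⟩
  set d := charDegree (ξ : G → ℂ) with hd
  set e := charDegree (χ₀ : G → ℂ) with he'
  have hξne : (ξ : G → ℂ) ≠ fun _ => 1 := fun h => hξ1 (Subtype.ext h)
  have hχdeg : ∀ χ ∈ Y, ε * (charDegree (χ : G → ℂ) : ℤ) = 1 + s * (d : ℤ) := by
    intro χ hχ
    have h := hrel' χ hχ 1 (by rw [orderOf_one]; exact hp.not_dvd_one)
    rw [irr_degree, irr_degree ξ] at h
    have h' : ((ε * (charDegree (χ : G → ℂ) : ℤ) : ℤ) : ℂ) = ((1 + s * (d : ℤ) : ℤ) : ℂ) := by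
      push_cast
      exact h
    exact_mod_cast h'
  have hdeg0 : ∀ ψ : IrrCharacter G, 0 < charDegree (ψ : G → ℂ) := by
    intro ψ
    obtain ⟨k, hk0, hk⟩ := IsIrrCharacter.exists_degree ψ.2
    rw [charDegree, hk, Complex.natCast_re, Nat.floor_natCast]
    omega
  have hd2 : 2 ≤ d := by
    have := not_linear hG ξ hξne
    have := hdeg0 ξ
    omega
  refine ⟨one, ξ, Yf, s, ε, d, e,
    { one_apply := h1v
      ne := hξ1.symm
      one_notMem := fun h => Set.disjoint_left.1 hdisj h1X ((hYmem _).1 h)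
      xi_notMem := fun h => Set.disjoint_left.1 hdisj hξX ((hYmem _).1 h)
      card_Y := hYcard
      sign := hsgn
      signY := hε
      deg := irr_degree ξ
      two_le := hd2
      dmod := dvd_sub_comm.1 (Int.modEq_iff_dvd.1 hξmod)
      sing := hξsing
      degY := fun χ hχ => ?_
      pos := hdeg0 χ₀
      erel := hχdeg χ₀ hχ₀
      regY := fun χ hχ g hg => hrel' χ ((hYmem χ).1 hχ) g hg
      ker := fun g hg => eq_one_of_apply_eq ξ (irr_degree ξ) (x := x) ?_ hg }⟩
  · have h1 := hχdeg χ ((hYmem χ).1 hχ)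
    have h2 := hχdeg χ₀ hχ₀
    have e1 : (charDegree (χ : G → ℂ) : ℤ) = (e : ℤ) :=
      mul_left_cancel₀ (by omega : ε ≠ 0) (h1.trans h2.symm)
    rw [irr_degree, show charDegree (χ : G → ℂ) = e by exact_mod_cast e1]
  · rw [hξsing x (by rw [hx])]
    intro h
    have h' : s = (d : ℤ) := by exact_mod_cast h
    omega

namespace Dat

variable (S : Grp G p) (D : Dat p one ξ Y s ε d e)

include S D

theorem sum_xi : ∑ g : G, (ξ : G → ℂ) g = 0 := by
  classical
  have h := sum_irr ξ one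
  rw [if_neg D.ne.symm] at h
  simpa [D.one_apply] using h

omit S in
theorem s_mul_s : s * s = 1 := by rcases D.sign with h | h <;> rw [h] <;> norm_num

omit S in
theorem eps_mul_eps : ε * ε = 1 := by rcases D.signY with h | h <;> rw [h] <;> norm_num

/-- The characters outside the block vanish on singular elements. -/
theorem vanishing : ∀ ψ : IrrCharacter G, ψ ≠ one → ψ ≠ ξ → ψ ∉ Y →
    ∀ g : G, p ∣ orderOf g → (ψ : G → ℂ) g = 0 := by
  classical
  suffices hzero : ∀ ψ : IrrCharacter G, ψ ∉ insert one (insert ξ Y) →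
      ∀ g : G, p ∣ orderOf g → (ψ : G → ℂ) g = 0 from
    fun ψ h1 h2 h3 => hzero ψ (by simp [h1, h2, h3])
  have h1B : one ∉ insert ξ Y := by simp [D.ne, D.one_notMem]
  set B : Finset (IrrCharacter G) := insert one (insert ξ Y) with hB
  have hs2 : (s : ℂ) * (s : ℂ) = 1 := by exact_mod_cast D.s_mul_s
  set T : Finset G := Finset.univ.filter fun g : G => p ∣ orderOf g with hT
  have hsp := S.sum_singular
  rw [← hT] at hsp
  have hcol : ∀ g ∈ T, ∑ ψ : IrrCharacter G, (ψ : G → ℂ) g * conj ((ψ : G → ℂ) g) = (p : ℂ) := by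
    intro g hg
    rw [column_orth_of_isConj (IsConj.refl g),
      S.card_centralizer _ (S.singular (Finset.mem_filter.1 hg).2)]
  have hsY : ∀ χ ∈ Y, ∑ g ∈ T, (χ : G → ℂ) g * conj ((χ : G → ℂ) g) =
      4 * (T.card : ℂ) - (Nat.card G : ℂ) := by
    intro χ hχ
    have hn : ∑ _g : G, (1 : ℂ) = (Nat.card G : ℂ) := by simp [Nat.card_eq_fintype_card]
    have hall : ∑ g : G, (χ : G → ℂ) g * conj ((χ : G → ℂ) g) = (Nat.card G : ℂ) := by
      rw [sum_irr, if_pos rfl]
    have m1' : ∑ g : G, conj ((ξ : G → ℂ) g) = 0 := by rw [← map_sum, D.sum_xi S, map_zero]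
    have hall' : ∑ g : G, (1 + (s : ℂ) * (ξ : G → ℂ) g) * conj (1 + (s : ℂ) * (ξ : G → ℂ) g) =
        2 * (Nat.card G : ℂ) := by
      have e : ∀ g : G, (1 + (s : ℂ) * (ξ : G → ℂ) g) * conj (1 + (s : ℂ) * (ξ : G → ℂ) g) =
          1 + ((s : ℂ) * (ξ : G → ℂ) g + (s : ℂ) * conj ((ξ : G → ℂ) g)) +
            (ξ : G → ℂ) g * conj ((ξ : G → ℂ) g) := fun g => by
        rw [map_add, map_one, map_mul, map_intCast]
        linear_combination ((ξ : G → ℂ) g * conj ((ξ : G → ℂ) g)) * hs2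
      rw [Finset.sum_congr rfl (fun g _ => e g), Finset.sum_add_distrib, Finset.sum_add_distrib,
        Finset.sum_add_distrib, ← Finset.mul_sum, ← Finset.mul_sum, D.sum_xi S, m1', hn, sum_irr,
        if_pos rfl]
      ring
    have hdiff : ∑ g : G, ((χ : G → ℂ) g * conj ((χ : G → ℂ) g) -
        (1 + (s : ℂ) * (ξ : G → ℂ) g) * conj (1 + (s : ℂ) * (ξ : G → ℂ) g)) =
        ∑ g ∈ T, ((χ : G → ℂ) g * conj ((χ : G → ℂ) g) - 4) := by
      rw [hT, Finset.sum_filter]
      refine Finset.sum_congr rfl fun g _ => ?_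
      split_ifs with hg
      · rw [D.sing _ hg, hs2]; simp; norm_num
      · rw [← D.regY χ hχ g hg, map_mul, map_intCast]
        have he2 : (ε : ℂ) * (ε : ℂ) = 1 := by exact_mod_cast D.eps_mul_eps
        linear_combination -((χ : G → ℂ) g * conj ((χ : G → ℂ) g)) * he2
    rw [Finset.sum_sub_distrib, Finset.sum_sub_distrib, hall, hall', Finset.sum_const,
      nsmul_eq_mul] at hdiff
    linear_combination -hdiff
  have htot : ∑ ψ ∈ B, ∑ g ∈ T, (ψ : G → ℂ) g * conj ((ψ : G → ℂ) g) = (p : ℂ) * (T.card : ℂ) := by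
    have e1 : ∑ g ∈ T, (one : G → ℂ) g * conj ((one : G → ℂ) g) = (T.card : ℂ) := by
      simp [D.one_apply]
    have e2 : ∑ g ∈ T, (ξ : G → ℂ) g * conj ((ξ : G → ℂ) g) = (T.card : ℂ) := by
      rw [Finset.card_eq_sum_ones T, Nat.cast_sum]
      refine Finset.sum_congr rfl fun g hg => ?_
      rw [D.sing _ (Finset.mem_filter.1 hg).2, map_intCast, hs2, Nat.cast_one]
    rw [hB, Finset.sum_insert h1B, Finset.sum_insert D.xi_notMem, e1, e2, Finset.sum_congr rfl hsY,
      Finset.sum_const, D.card_Y, nsmul_eq_mul]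
    have hh : (2 : ℂ) * (((p - 1) / 2 : ℕ) : ℂ) + 1 = (p : ℂ) := by
      exact_mod_cast S.two_half
    linear_combination hsp + 2 * (T.card : ℂ) * hh
  have hrest : ∑ ψ ∈ Finset.univ \ B, ∑ g ∈ T, (ψ : G → ℂ) g * conj ((ψ : G → ℂ) g) = 0 := by
    have h := Finset.sum_sdiff (Finset.subset_univ B)
      (f := fun ψ : IrrCharacter G => ∑ g ∈ T, (ψ : G → ℂ) g * conj ((ψ : G → ℂ) g))
    rw [Finset.sum_comm (s := Finset.univ), Finset.sum_congr rfl hcol, Finset.sum_const,
      nsmul_eq_mul] at h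
    linear_combination h - htot
  intro ψ hψ g hg
  have hr : ∑ ψ ∈ Finset.univ \ B, ∑ g ∈ T, Complex.normSq ((ψ : G → ℂ) g) = 0 := by
    apply Complex.ofReal_injective
    push_cast
    rw [← hrest]
    exact Finset.sum_congr rfl fun _ _ => Finset.sum_congr rfl fun g _ => (Complex.mul_conj _).symm
  have h' := (Finset.sum_eq_zero_iff_of_nonneg
    (fun _ _ => Finset.sum_nonneg fun _ _ => Complex.normSq_nonneg _)).1 hr ψ (by simp [hψ])
  exact Complex.normSq_eq_zero.1 ((Finset.sum_eq_zero_iff_of_nonneg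
    (fun _ _ => Complex.normSq_nonneg _)).1 h' g (Finset.mem_filter.2 ⟨Finset.mem_univ _, hg⟩))

theorem column_Y {x : G} (hx : p ∣ orderOf x) : ∑ χ ∈ Y, conj ((χ : G → ℂ) x) = -(ε : ℂ) := by
  classical
  have hne : ¬ IsConj (1 : G) x := fun h => by
    rw [isConj_one_right.1 h, orderOf_one] at hx
    exact S.prime.not_dvd_one hx
  have h := column_orth_of_not_isConj hne
  have h1B : one ∉ insert ξ Y := by simp [D.ne, D.one_notMem]
  rw [← Finset.sum_subset (Finset.subset_univ (insert one (insert ξ Y))) (fun ψ _ hψ => by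
      simp only [Finset.mem_insert, not_or] at hψ
      rw [D.vanishing S ψ hψ.1 hψ.2.1 hψ.2.2 x hx, map_zero, mul_zero]),
    Finset.sum_insert h1B, Finset.sum_insert D.xi_notMem, D.one_apply, D.one_apply, D.deg,
    D.sing x hx, Finset.sum_congr rfl (g := fun χ : IrrCharacter G => (e : ℂ) * conj ((χ : G → ℂ) x))
      (fun χ hχ => by rw [D.degY χ hχ]), ← Finset.mul_sum, map_one, map_intCast] at h
  have he : (ε : ℂ) * (e : ℂ) = 1 + (s : ℂ) * (d : ℂ) := by exact_mod_cast D.erel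
  have he0 : (e : ℂ) ≠ 0 := Nat.cast_ne_zero.2 D.pos.ne'
  refine mul_left_cancel₀ he0 ?_
  linear_combination h + he

/-- The class multiplication formula. -/
theorem class_count {v w x : G} (hv : orderOf v = 2) (hw : orderOf w = 2) (hx : p ∣ orderOf x)
    [DecidablePred fun j : G => IsConj (j⁻¹ * w * j * v) x] :
    (p : ℂ) * ((Finset.univ.filter fun j : G => IsConj (j⁻¹ * w * j * v) x).card : ℂ) *
        ((d : ℂ) * ((d : ℂ) + (s : ℂ))) =
      (Nat.card G : ℂ) * ((d : ℂ) - (ξ : G → ℂ) w) * ((d : ℂ) - (ξ : G → ℂ) v) := by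
  classical
  set N : ℂ := ((Finset.univ.filter fun j : G => IsConj (j⁻¹ * w * j * v) x).card : ℂ) with hN
  have hL : ∑ j : G, ∑ ψ : IrrCharacter G, (ψ : G → ℂ) (j⁻¹ * w * j * v) * conj ((ψ : G → ℂ) x) =
      (p : ℂ) * N := by
    rw [← Finset.sum_filter_add_sum_filter_not Finset.univ (fun j : G => IsConj (j⁻¹ * w * j * v) x),
      Finset.sum_eq_zero (s := Finset.univ.filter fun j : G => ¬ IsConj (j⁻¹ * w * j * v) x)
        (fun j hj => column_orth_of_not_isConj (Finset.mem_filter.1 hj).2), add_zero,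
      Finset.sum_congr rfl (g := fun _ => (p : ℂ)) (fun j hj => ?_), Finset.sum_const, nsmul_eq_mul,
      mul_comm, hN]
    have hc := (Finset.mem_filter.1 hj).2
    obtain ⟨k, hk⟩ := isConj_iff.1 hc
    rw [column_orth_of_isConj hc, S.card_centralizer]
    have := MulEquiv.orderOf_eq (MulAut.conj k) (j⁻¹ * w * j * v)
    rw [MulAut.conj_apply, hk, S.singular hx] at this
    exact this.symm
  rw [Finset.sum_comm] at hL
  simp only [← Finset.sum_mul, Agent.Blocks.irr_sum_conj_mul] at hL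
  have h1B : one ∉ insert ξ Y := by simp [D.ne, D.one_notMem]
  have he2 : (ε : ℂ) * (ε : ℂ) = 1 := by exact_mod_cast D.eps_mul_eps
  have hs2 : (s : ℂ) * (s : ℂ) = 1 := by exact_mod_cast D.s_mul_s
  have he : (ε : ℂ) * (e : ℂ) = 1 + (s : ℂ) * (d : ℂ) := by exact_mod_cast D.erel
  have he0 : (e : ℂ) ≠ 0 := Nat.cast_ne_zero.2 D.pos.ne'
  have hd0 : (d : ℂ) ≠ 0 := Nat.cast_ne_zero.2 (by have := D.two_le; omega)
  set A := (ξ : G → ℂ) w with hA
  set B := (ξ : G → ℂ) v with hB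
  rw [← Finset.sum_subset (Finset.subset_univ (insert one (insert ξ Y))) (fun ψ _ hψ => by
      simp only [Finset.mem_insert, not_or] at hψ
      rw [D.vanishing S ψ hψ.1 hψ.2.1 hψ.2.2 x hx, map_zero, mul_zero]),
    Finset.sum_insert h1B, Finset.sum_insert D.xi_notMem, D.one_apply, D.one_apply, D.one_apply,
    D.one_apply, D.deg, D.sing x hx,
    Finset.sum_congr rfl (fun (χ : IrrCharacter G) hχ => show
    (Nat.card G : ℂ) * (χ : G → ℂ) w * (χ : G → ℂ) v / (χ : G → ℂ) 1 * conj ((χ : G → ℂ) x) =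
    ((Nat.card G : ℂ) * (1 + (s : ℂ) * A) * (1 + (s : ℂ) * B) / (e : ℂ)) * conj ((χ : G → ℂ) x) by
      rw [D.degY χ hχ, hA, hB, ← D.regY χ hχ w (S.not_singular_two hw),
        ← D.regY χ hχ v (S.not_singular_two hv)]
      congr 2
      linear_combination -((Nat.card G : ℂ) * (χ : G → ℂ) w * (χ : G → ℂ) v) * he2),
    ← Finset.mul_sum, D.column_Y S hx, map_one, map_intCast] at hL
  rw [← hA, ← hB] at hL
  field_simp at hL
  refine mul_left_cancel₀ he0 ?_
  linear_combination (-((d : ℂ) + (s : ℂ))) * hL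
    + ((Nat.card G : ℂ) * (e : ℂ) * (A * B - (s : ℂ) * (d : ℂ) * A * B - (d : ℂ) * A - (d : ℂ) * B)
        + (Nat.card G : ℂ) * (d : ℂ) * (d : ℂ) * (ε : ℂ) * ((1 + (s : ℂ) * A) * (1 + (s : ℂ) * B))) * hs2
    + (-((Nat.card G : ℂ) * (d : ℂ) * ((1 + (s : ℂ) * A) * (1 + (s : ℂ) * B)) * (s : ℂ) * (e : ℂ))) * he2
    + ((Nat.card G : ℂ) * (d : ℂ) * ((1 + (s : ℂ) * A) * (1 + (s : ℂ) * B)) * (ε : ℂ) * (s : ℂ)) * he

end Dat

end Cfsg.Agent.ThreeP
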