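import Cfsg.Agent.S4706
import Mathlib.GroupTheory.GroupAction.Primitive
import Mathlib.LinearAlgebra.Matrix.ProjectiveSpecialLinearGroup

/-!
# Simple groups of degree `3p` with Sylow normalizer of order `2p`: the imprimitive case

A block system gives an action on `3` or `p` blocks, faithful by simplicity; `3` points are too few and
`p` points is the theorem on degree `p`.
-/

set_option autoImplicit false
set_option linter.style.haveILetI false
set_option linter.unusedSectionVars false

namespace Cfsg.Agent.ThreeP

open MulAction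
open scoped Pointwise

universe u v

variable {G : Type u} [Group G] [Finite G] [IsSimpleGroup G]

/-- A simple group isomorphic to a special linear group is the projective one. -/
theorem psl_of_sl (hG : ¬ IsMulCommutative G) {F : Type} [Field F] [Fintype F]
    (e : G ≃* Matrix.SpecialLinearGroup (Fin 2) F) :
    Nonempty (G ≃* Matrix.ProjectiveSpecialLinearGroup (Fin 2) F) := by
  set N := (Subgroup.center (Matrix.SpecialLinearGroup (Fin 2) F)).comap e.toMonoidHom with hN
  have hbot : Subgroup.center (Matrix.SpecialLinearGroup (Fin 2) F) = ⊥ := by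
    rcases (inferInstance : (Subgroup.center (Matrix.SpecialLinearGroup (Fin 2) F)).Normal).comap
      e.toMonoidHom |>.eq_bot_or_eq_top with h | h
    · rw [Subgroup.eq_bot_iff_forall]
      intro z hz
      have h2 : e.symm z ∈ N := by
        rw [hN, Subgroup.mem_comap]
        show e (e.symm z) ∈ _
        rwa [e.apply_symm_apply]
      rw [hN, h, Subgroup.mem_bot] at h2
      rw [← e.apply_symm_apply z, h2, map_one]
    · refine absurd ⟨⟨fun a b => e.injective ?_⟩⟩ hG
      have ha : e a ∈ Subgroup.center (Matrix.SpecialLinearGroup (Fin 2) F) := by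
        have := Subgroup.mem_top a
        rw [← h, Subgroup.mem_comap] at this
        exact this
      rw [map_mul, map_mul]
      exact (Subgroup.mem_center_iff.1 ha (e b)).symm
  exact ⟨e.trans ((QuotientGroup.quotientBot).symm.trans (QuotientGroup.quotientMulEquivOfEq hbot.symm))⟩

variable {Ω : Type v} [Fintype Ω] [MulAction G Ω] [FaithfulSMul G Ω]

/-- The imprimitive case. -/
theorem imprim_case (hG : ¬ IsMulCommutative G) {p : ℕ} (hp : p.Prime) (hp3 : 3 < p)
    (htr : IsPretransitive G Ω) (hΩ : Fintype.card Ω = 3 * p) (P : Sylow p G)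
    (hN : Nat.card ↥(Subgroup.normalizer ((P : Subgroup G) : Set G)) = 2 * p) (hnp : ¬ IsPreprimitive G Ω) :
    ∃ (F : Type) (_ : Field F) (_ : Fintype F) (m : ℕ), Fintype.card F = 2 ^ m ∧ p = 2 ^ m + 1 ∧
      Nonempty (G ≃* Matrix.ProjectiveSpecialLinearGroup (Fin 2) F) := by
  classical
  haveI := Fact.mk hp
  haveI := htr
  obtain ⟨B, hB, hnt⟩ : ∃ B : Set Ω, IsBlock G B ∧ ¬ IsTrivialBlock B := by
    by_contra hno
    push Not at hno
    exact hnp { isTrivialBlock_of_isBlock := fun {B} hB => hno B hB }
  have hne : B.Nonempty := by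
    rcases B.eq_empty_or_nonempty with rfl | h
    · exact absurd (Or.inl (Set.subsingleton_empty)) hnt
    · exact h
  have hprod := hB.ncard_block_mul_ncard_orbit_eq hne
  rw [Nat.card_eq_fintype_card, hΩ] at hprod
  set O := orbit G B with hO
  have hB1 : 1 < B.ncard := by
    rcases Nat.lt_or_ge 1 B.ncard with h | h
    · exact h
    · exact absurd (Or.inl ((Set.ncard_le_one_iff_subsingleton).1 h)) hnt
  have hO1 : 1 < O.ncard := by
    rcases Nat.lt_or_ge 1 O.ncard with h | h
    · exact h
    · exfalso
      have h1 : O.ncard = 1 := by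
        have : 0 < O.ncard := Nat.pos_of_ne_zero fun e => by rw [e, mul_zero] at hprod; omega
        omega
      rw [h1, mul_one] at hprod
      refine hnt (Or.inr (Set.eq_univ_of_forall fun x => ?_))
      have : B = Set.univ := Set.eq_of_subset_of_ncard_le (Set.subset_univ _)
        (by rw [Set.ncard_univ, Nat.card_eq_fintype_card, hΩ, hprod])
      rw [this]
      trivial
  have hcases : O.ncard = 3 ∨ O.ncard = p := by
    obtain ⟨a, b, ha, hb, hab⟩ := Nat.dvd_mul.1 (Dvd.intro_left _ hprod : O.ncard ∣ 3 * p)
    rcases (Nat.dvd_prime Nat.prime_three).1 ha with rfl | rfl <;>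
      rcases (Nat.dvd_prime hp).1 hb with rfl | rfl
    · omega
    · exact Or.inr (by rw [← hab, one_mul])
    · exact Or.inl (by rw [← hab])
    · exfalso
      rw [← hab] at hprod
      have : B.ncard = 1 := by
        have h2 : B.ncard * (3 * b) = 1 * (3 * b) := by rw [hprod, one_mul]
        exact Nat.eq_of_mul_eq_mul_right (by have := hp.pos; omega) h2
      omega
  -- the action on the blocks
  haveI : Finite O := Subtype.finite
  haveI : Fintype O := Fintype.ofFinite _
  have hcard : Fintype.card O = O.ncard := by rw [← Nat.card_eq_fintype_card, Nat.card_coe_set_eq]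
  let φ : G →* Equiv.Perm O := MulAction.toPermHom G O
  have hinj : Function.Injective φ := by
    rcases φ.normal_ker.eq_bot_or_eq_top with h | h
    · exact (MonoidHom.ker_eq_bot_iff φ).1 h
    · exfalso
      obtain ⟨⟨X, hX⟩, hXne⟩ : ∃ X : O, X ≠ ⟨B, mem_orbit_self B⟩ := by
        haveI : Nontrivial O := Fintype.one_lt_card_iff_nontrivial.1 (hcard ▸ hO1)
        exact exists_ne _
      obtain ⟨g, rfl⟩ := hX
      have hg : φ g = 1 := (h ▸ Subgroup.mem_top g : g ∈ φ.ker)
      exact hXne (DFunLike.congr_fun hg ⟨B, mem_orbit_self B⟩)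
  have hbig : 2 * p ≤ Nat.card G := hN ▸ Subgroup.card_le_card_group _
  rcases hcases with h3 | hpO
  · exfalso
    have h1 := Nat.card_le_card_of_injective φ hinj
    rw [Nat.card_eq_fintype_card (α := Equiv.Perm O), Fintype.card_perm, hcard, h3,
      show Nat.factorial 3 = 6 from rfl] at h1
    omega
  · let e : G ≃* φ.range := MonoidHom.ofInjective hinj
    set Q : Sylow p φ.range := P.mapSurjective (f := e.toMonoidHom) e.surjective with hQ
    have hQc : (Q : Subgroup φ.range) = (P : Subgroup G).map e.toMonoidHom := rfl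
    have hN' : Nat.card (Subgroup.normalizer ((Q : Subgroup φ.range) : Set φ.range)) = 2 * p := by
      rw [← hN, hQc]
      have key := Subgroup.map_equiv_normalizer_eq (P : Subgroup G) e
      rw [← key]
      exact (Nat.card_congr (Subgroup.equivMapOfInjective _ e.toMonoidHom e.injective).toEquiv).symm
    rcases S4706.result (p := p) (by omega) (hcard.trans hpO) φ.range Q hN' with hnorm | ⟨a, F, iF, iFF, hpa, hF, ⟨e2⟩⟩
    · exfalso
      have h1 : (P : Subgroup G).Normal := by
        have h2 := hnorm.comap e.toMonoidHom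
        rwa [hQc, Subgroup.comap_map_eq_self_of_injective (f := e.toMonoidHom) e.injective] at h2
      have hle : Nat.card G ≤ 2 * p := by
        rw [← hN, Subgroup.normalizer_eq_top (H := (P : Subgroup G)), Subgroup.card_top]
      have hpdvd : p ∣ Nat.card G := (Dvd.intro_left 2 hN.symm).trans (Subgroup.card_subgroup_dvd_card _)
      rcases h1.eq_bot_or_eq_top with hb | ht
      · exact (P.ne_bot_of_dvd_card hpdvd) hb
      · have hcardP : Nat.card (P : Subgroup G) = Nat.card G := by rw [ht, Subgroup.card_top]
        obtain ⟨k, hk⟩ := IsPGroup.iff_card.1 P.2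
        rw [hcardP] at hk
        have h4 : 2 ∣ p ^ k := by
          rw [← hk]
          exact (Dvd.intro p hN.symm).trans (Subgroup.card_subgroup_dvd_card _)
        have := (Nat.prime_dvd_prime_iff_eq Nat.prime_two hp).1 (Nat.prime_two.dvd_of_dvd_pow h4)
        omega
    · obtain ⟨e3⟩ := psl_of_sl hG (e.trans e2)
      exact ⟨F, iF, iFF, a, hF, hpa, ⟨e3⟩⟩

end Cfsg.Agent.ThreeP
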