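import Cfsg.Agent.Lib.DegreePTwo.BlkSL
import Mathlib.GroupTheory.GroupAction.Primitive

/-!
# Degree `3p`: the case of a character of degree `p - 1` is not primitive

With the block data `1`, `θ`, `Y` the group has order `(q + 1) q (q - 1)`, `q = p - 1` a power of `2`,
and a subgroup of index `3p` normalises the Sylow `2`-subgroup it contains, so it is not maximal.
-/

set_option autoImplicit false
set_option linter.style.haveILetI false

namespace Cfsg.Agent.ThreeP

open MulAction Cfsg.Agent.DegreePTwo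
open scoped Pointwise

universe u v

variable {G : Type u} [Group G] [Fintype G] {p : ℕ} {one θ : IrrCharacter G}
  {Y : Finset (IrrCharacter G)}

/-- Disjointness of Sylow `2`-subgroups, as a count. -/
theorem blk_sylow_le_count (S : Blk p one θ Y) {a : ℕ} (ha : p - 1 = 2 ^ a) (K : Subgroup G) :
    Nat.card {R : Sylow 2 G // (R : Subgroup G) ≤ K} * (2 ^ a - 1) ≤
      Nat.card {u : G // u ∈ K ∧ orderOf u = 2} := by
  classical
  haveI := Fact.mk Nat.prime_two
  obtain ⟨b, hb, hG, hC⟩ := S.exists_pow_two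
  obtain rfl : a = b := Nat.pow_right_injective le_rfl (ha.symm.trans hb)
  have hcard : ∀ R : Sylow 2 G, Nat.card (R : Subgroup G) = 2 ^ a := fun R => by
    rw [R.card_eq_multiplicity, S.two_part ha hG]
  have hord : ∀ (R : Sylow 2 G) (t : (R : Subgroup G)), t ≠ 1 → orderOf (t : G) = 2 := by
    intro R t ht
    obtain ⟨w, hwR, hw⟩ := S.exists_involution R
    refine orderOf_eq_prime (by rw [sq]; exact (S.sylow_eq_centralizer R hw hwR).2 _ t.2) ?_
    exact fun h => ht (Subtype.ext h)
  haveI : Fintype {R : Sylow 2 G // (R : Subgroup G) ≤ K} := Fintype.ofFinite _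
  let f : (Σ R : {R : Sylow 2 G // (R : Subgroup G) ≤ K}, {t : (R.1 : Subgroup G) // t ≠ 1}) →
      {u : G // u ∈ K ∧ orderOf u = 2} :=
    fun z => ⟨(z.2.1 : G), z.1.2 z.2.1.2, hord z.1.1 z.2.1 z.2.2⟩
  have hf : Function.Injective f := by
    rintro ⟨⟨R, hR⟩, t, ht⟩ ⟨⟨R', hR'⟩, t', ht'⟩ h
    have h1 : (t : G) = t' := congrArg Subtype.val h
    have e : R = R' := S.invol_unique (hord R t ht) (Subgroup.le_normalizer t.2)
      (h1 ▸ Subgroup.le_normalizer t'.2)
    subst e
    obtain rfl : t = t' := Subtype.ext h1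
    rfl
  refine le_of_eq_of_le ?_ (Nat.card_le_card_of_injective f hf)
  have hfib : ∀ R : {R : Sylow 2 G // (R : Subgroup G) ≤ K},
      Nat.card {t : (R.1 : Subgroup G) // t ≠ 1} = 2 ^ a - 1 := fun R => by
    rw [Nat.card_eq_fintype_card, Fintype.card_subtype_compl, Fintype.card_subtype_eq,
      ← Nat.card_eq_fintype_card, hcard]
  rw [Nat.card_sigma, Finset.sum_congr rfl (fun R _ => hfib R), Finset.sum_const, Finset.card_univ,
    smul_eq_mul, ← Nat.card_eq_fintype_card]

/-- There are at most `p * (p - 2)` involutions. -/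
theorem blk_involutions_le (S : Blk p one θ Y) :
    Nat.card {u : G // orderOf u = 2} ≤ p * (p - 2) := by
  classical
  obtain ⟨a, -, hG, hC⟩ := S.exists_pow_two
  obtain ⟨x, v, -, hv, -⟩ := S.exists_pair
  set C := Subgroup.centralizer ({v} : Set G) with hCdef
  have hidx : C.index = p * (p - 2) := by
    refine Nat.eq_of_mul_eq_mul_right (show 0 < 2 ^ a by positivity) ?_
    have := C.index_mul_card
    rw [hC v hv, hG] at this
    rw [this]; ring
  rw [← hidx]
  have hconj : ∀ w : {u : G // orderOf u = 2}, ∃ g : G, g * v * g⁻¹ = w.1 := fun w =>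
    isConj_iff.1 (S.isConj_involutions hv w.2)
  choose g hg using hconj
  refine Nat.card_le_card_of_injective (fun w => (g w : G ⧸ C)) fun w w' h => ?_
  have h1 : (g w)⁻¹ * g w' ∈ C := QuotientGroup.eq.1 h
  rw [hCdef, Subgroup.mem_centralizer_singleton_iff] at h1
  refine Subtype.ext ?_
  rw [← hg w, ← hg w']
  calc g w * v * (g w)⁻¹ = g w * (v * ((g w)⁻¹ * g w')) * (g w')⁻¹ := by group
    _ = g w * ((g w)⁻¹ * g w' * v) * (g w')⁻¹ := by rw [h1]
    _ = g w' * v * (g w')⁻¹ := by group

/-- A subgroup of index `3p` is not maximal. -/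
theorem blk_not_isCoatom (S : Blk p one θ Y) {H : Subgroup G} (hH : H.index = 3 * p) :
    ¬ IsCoatom H := by
  classical
  intro hmax
  haveI := Fact.mk Nat.prime_two
  have h5 := S.five
  obtain ⟨a, ha, hG, hC⟩ := S.exists_pow_two
  have h2a : 4 ≤ 2 ^ a := by omega
  have hcH : Nat.card H * 3 = 2 ^ a * (p - 2) := by
    refine Nat.eq_of_mul_eq_mul_left S.prime.pos ?_
    have := H.index_mul_card
    rw [hH, hG] at this
    linarith
  have hdvd : 2 ^ a ∣ Nat.card H :=
    ((Nat.coprime_primes Nat.prime_two Nat.prime_three).2 (by norm_num)).pow_left a |>.dvd_of_dvd_mul_right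
      (hcH ▸ dvd_mul_right _ _)
  obtain ⟨K, hK⟩ := Sylow.exists_subgroup_card_pow_prime 2 hdvd
  let Q : Sylow 2 G := Sylow.ofCard (K.map H.subtype) (by
    rw [Subgroup.card_map_of_injective H.subtype_injective, hK, S.two_part ha hG])
  have hQH : (Q : Subgroup G) ≤ H := by
    rw [Sylow.coe_ofCard]; exact Subgroup.map_subtype_le K
  have hQc : Nat.card (Q : Subgroup G) = 2 ^ a := by rw [Q.card_eq_multiplicity, S.two_part ha hG]
  -- no other Sylow subgroup lies in `H`
  have huniq : ∀ R : Sylow 2 G, (R : Subgroup G) ≤ H → R = Q := by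
    intro R hR
    by_contra hne
    let f : ↥(Q : Subgroup G) → {T : Sylow 2 G // (T : Subgroup G) ≤ H} :=
      fun y => ⟨(y : G) • R, by
        rw [Sylow.coe_subgroup_smul]
        intro z hz
        rw [Subgroup.mem_pointwise_smul_iff_inv_smul_mem, MulAut.smul_def, ← map_inv, MulAut.conj_apply,
          inv_inv] at hz
        have h2 := H.mul_mem (H.mul_mem (hQH y.2) (hR hz)) (H.inv_mem (hQH y.2))
        rwa [show (y : G) * ((y : G)⁻¹ * z * y) * (y : G)⁻¹ = z by group] at h2⟩
    have hf : Function.Injective f := by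
      intro y y' h
      have h1 : (y : G) • R = (y' : G) • R := congrArg Subtype.val h
      have h2 : ((y⁻¹ * y' : (Q : Subgroup G)) : G) • R = R := by
        rw [Subgroup.coe_mul, Subgroup.coe_inv, mul_smul, ← h1, inv_smul_smul]
      by_contra hyy
      have hne1 : y⁻¹ * y' ≠ 1 := fun h => hyy (inv_mul_eq_one.1 h)
      obtain ⟨w, hwQ, hw⟩ := S.exists_involution Q
      have ho : orderOf ((y⁻¹ * y' : (Q : Subgroup G)) : G) = 2 :=
        orderOf_eq_prime (by rw [sq]; exact (S.sylow_eq_centralizer Q hw hwQ).2 _ (Subtype.prop _))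
          (fun h => hne1 (Subtype.ext h))
      exact hne (S.invol_unique ho (Sylow.smul_eq_iff_mem_normalizer.1 h2)
        (Subgroup.le_normalizer (Subtype.prop _)))
    have h1 := Nat.card_le_card_of_injective f hf
    rw [hQc] at h1
    have h2 : Nat.card {u : G // u ∈ H ∧ orderOf u = 2} ≤ Nat.card H :=
      Nat.card_le_card_of_injective (fun u => (⟨u.1, u.2.1⟩ : H)) fun u u' h =>
        Subtype.ext (congrArg (fun z : H => (z : G)) h)
    have h3 := (Nat.mul_le_mul_right (2 ^ a - 1) h1).trans ((blk_sylow_le_count S ha H).trans h2)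
    rw [show p - 2 = 2 ^ a - 1 by omega] at hcH
    have : 0 < 2 ^ a * (2 ^ a - 1) := Nat.mul_pos (by omega) (by omega)
    omega
  have hHN : H ≤ Subgroup.normalizer ((Q : Subgroup G) : Set G) := by
    intro h hh
    refine Sylow.smul_eq_iff_mem_normalizer.1 (huniq _ ?_)
    rw [Sylow.coe_subgroup_smul]
    intro z hz
    rw [Subgroup.mem_pointwise_smul_iff_inv_smul_mem, MulAut.smul_def, ← map_inv, MulAut.conj_apply,
      inv_inv] at hz
    have h2 := H.mul_mem (H.mul_mem hh (hQH hz)) (H.inv_mem hh)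
    rwa [show h * (h⁻¹ * z * h) * h⁻¹ = z by group] at h2
  rcases hHN.eq_or_lt with heq | hlt
  · -- there would be `3p` Sylow subgroups
    have hS : Nat.card (Sylow 2 G) = 3 * p := by
      rw [Sylow.card_eq_index_normalizer Q, ← hH]
      exact (congrArg Subgroup.index heq).symm
    have h1 := blk_sylow_le_count S ha (⊤ : Subgroup G)
    have e1 : Nat.card {R : Sylow 2 G // (R : Subgroup G) ≤ ⊤} = Nat.card (Sylow 2 G) :=
      Nat.card_congr (Equiv.subtypeUnivEquiv fun _ => le_top)
    have e2 : Nat.card {u : G // u ∈ (⊤ : Subgroup G) ∧ orderOf u = 2} =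
        Nat.card {u : G // orderOf u = 2} :=
      Nat.card_congr (Equiv.subtypeEquivRight fun u => ⟨And.right, fun h => ⟨Subgroup.mem_top u, h⟩⟩)
    rw [e1, e2, hS] at h1
    have h2 := h1.trans (blk_involutions_le S)
    rw [show p - 2 = 2 ^ a - 1 by omega, mul_assoc] at h2
    have : 0 < p * (2 ^ a - 1) := Nat.mul_pos (by omega) (by omega)
    omega
  · -- the Sylow subgroup would be normal
    have htop := hmax.2 _ hlt
    obtain ⟨x, v, hx, hv, hvx⟩ := S.exists_pair
    haveI : Subsingleton (Sylow 2 G) := by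
      rw [← Finite.card_le_one_iff_subsingleton, Sylow.card_eq_index_normalizer Q]
      exact (congrArg Subgroup.index htop).trans Subgroup.index_top |>.le
    obtain ⟨R, hR⟩ := S.exists_sylow_centralizer hv
    have hw : orderOf (x * v * x⁻¹) = 2 := by
      have := MulEquiv.orderOf_eq (MulAut.conj x) v
      rwa [MulAut.conj_apply, hv] at this
    obtain ⟨R', hR'⟩ := S.exists_sylow_centralizer hw
    obtain rfl : R = R' := Subsingleton.elim _ _
    have hmem : x * v * x⁻¹ ∈ Subgroup.centralizer ({v} : Set G) := by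
      rw [← hR, hR', Subgroup.mem_centralizer_singleton_iff]
    have hvv : v * v = 1 := by rw [← sq, ← hv]; exact pow_orderOf_eq_one _
    have hvi : v⁻¹ = v := inv_eq_of_mul_eq_one_right hvv
    rw [Subgroup.mem_centralizer_singleton_iff] at hmem
    have hx2 : x * x = x⁻¹ * x⁻¹ := by
      have e : v * x = x⁻¹ * v := mul_inv_eq_iff_eq_mul.1 hvx
      have e' : v * x⁻¹ = x * v := by
        calc v * x⁻¹ = v * (v * x * v⁻¹) := by rw [hvx]
          _ = x * v := by rw [← mul_assoc, ← mul_assoc, hvv, one_mul, hvi]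
      calc x * x = x * v * x⁻¹ * v := by
            rw [mul_assoc (x * v), mul_assoc x v, ← mul_assoc v, e', mul_assoc x v, hvv, mul_one]
        _ = v * (x * v * x⁻¹) := hmem
        _ = x⁻¹ * x⁻¹ := by rw [← mul_assoc, ← mul_assoc, e, mul_assoc x⁻¹ v v, hvv, mul_one]
    have h4 : x ^ 4 = 1 := by
      calc x ^ 4 = (x * x) * (x * x) := by simp only [pow_succ, pow_zero, one_mul, mul_assoc]
        _ = (x * x) * (x⁻¹ * x⁻¹) := by rw [← hx2]
        _ = 1 := by group
    have hd : p ∣ 2 ^ 2 := hx ▸ orderOf_dvd_of_pow_eq_one h4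
    have := Nat.le_of_dvd (by norm_num) (S.prime.dvd_of_dvd_pow hd)
    omega

/-- With the block data for a character of degree `p - 1`, an action of degree `3p` is not primitive. -/
theorem blk_not_primitive (S : Blk p one θ Y) {Ω : Type v} [MulAction G Ω]
    (hΩ : Nat.card Ω = 3 * p) : ¬ IsPreprimitive G Ω := by
  intro hprim
  have h5 := S.five
  have hnt : Nontrivial Ω := by
    have : Finite Ω := Nat.finite_of_card_ne_zero (by omega)
    exact Finite.one_lt_card_iff_nontrivial.1 (by omega)
  obtain ⟨a⟩ : Nonempty Ω := inferInstance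
  refine blk_not_isCoatom S (H := stabilizer G a) ?_ (IsPreprimitive.isCoatom_stabilizer_of_isPreprimitive G a)
  rw [index_stabilizer_of_transitive, hΩ]

end Cfsg.Agent.ThreeP
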