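import Cfsg.Agent.Lib.ThreeP.Branches
import Cfsg.Agent.Lib.ThreeP.Imprim
import Cfsg.Agent.Lib.ThreeP.PSubOne

/-!
# Simple groups of degree `3p` with Sylow normaliser of order `2p`: the primitive case is `A₆`
-/

set_option autoImplicit false
set_option linter.style.haveILetI false

namespace Cfsg.Agent.ThreeP

open MulAction Cfsg Cfsg.Agent.Char Cfsg.Agent.DegreePTwo

universe u v

/-- With a constituent of degree `p - 1` the block is that of a group of degree `p`. -/
theorem blk_of_dat {G : Type u} [Group G] [Fintype G] {p : ℕ} {one ξ : IrrCharacter G}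
    {Y : Finset (IrrCharacter G)} {s ε : ℤ} {d e : ℕ} (S : Grp G p) (D : Dat p one ξ Y s ε d e)
    (hs : s = -1) (hd : d = p - 1) : Blk p one ξ Y := by
  have h5 := S.five
  have hdC : (d : ℂ) = (p : ℂ) - 1 := by rw [hd, Nat.cast_sub S.prime.one_le, Nat.cast_one]
  have he := D.erel
  have hpos := D.pos
  have hε : ε = -1 := by
    rcases D.signY with h | h
    · rw [h, hs] at he; omega
    · exact h
  have he' : e = p - 2 := by rw [hε, hs] at he; omega
  refine
    { prime := S.prime
      five := S.five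
      sylow := S.sylow
      normalizer := S.normalizer
      card_centralizer := S.card_centralizer
      one_apply := D.one_apply
      ne := D.ne
      one_notMem := D.one_notMem
      th_notMem := D.xi_notMem
      card_Y := D.card_Y
      deg := by rw [D.deg, hdC]
      sing := fun g hg => by rw [D.sing g hg, hs]; simp
      degY := fun χ hχ => by rw [D.degY χ hχ, he', Nat.cast_sub (by omega)]; simp
      regY := fun χ hχ g hg => ?_
      ker := fun g hg => D.ker g (by rw [hg, hdC]) }
  have h := D.regY χ hχ g hg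
  rw [hε, hs] at h
  push_cast at h
  linear_combination -h

/-- The primitive case. -/
theorem prim_case {G : Type u} [Group G] [Finite G] [IsSimpleGroup G] (hG : ¬ IsMulCommutative G) {p : ℕ}
    (hp : p.Prime) (hp3 : 3 < p) {Ω : Type v} [Finite Ω] [MulAction G Ω] [FaithfulSMul G Ω]
    (htr : IsPretransitive G Ω) (hΩ : Nat.card Ω = 3 * p) (P : Sylow p G)
    (hN : Nat.card (Subgroup.normalizer ((P : Subgroup G) : Set G)) = 2 * p) (hprim : IsPreprimitive G Ω) :
    p = 5 ∧ Nonempty (G ≃* alternatingGroup (Fin 6)) := by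
  classical
  haveI := Fintype.ofFinite G
  haveI := Fact.mk hp
  haveI := htr
  have h5 : 5 ≤ p := by
    by_contra h
    have : p = 4 := by omega
    subst this
    norm_num at hp
  obtain ⟨a⟩ : Nonempty Ω := (Nat.card_pos_iff.1 (by omega)).1
  have hpG : p ∣ Nat.card G :=
    (Dvd.intro_left 3 rfl).trans ((index_stabilizer_of_transitive G a).trans hΩ ▸ Subgroup.index_dvd_card _)
  have S := exists_grp h5 P hpG hN
  obtain ⟨one, ξ, Y, s, ε, d, e, D⟩ := exists_dat S hG
  rcases D.cases S (Ω := Ω) hΩ with ⟨hs, hd⟩ | ⟨hp5, hs, hd, hπ⟩ |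
    ⟨hs, hd, ψ, hψ1, hψξ, hψp, hπ⟩ | ⟨hs, hd, hπ⟩
  · exact absurd hprim (blk_not_primitive (blk_of_dat S D hs hd) hΩ)
  · exact (not_plus S D hG hΩ hp5 hs hd hπ).elim
  · exact caseC S D hG hΩ hs hd hψ1 hψξ hψp hπ
  · exact (caseD S D hG hΩ hs hd hπ).elim

end Cfsg.Agent.ThreeP
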