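import Cfsg.Agent.Lib.ThreeP.Data

/-!
# Degree `3p`: the permutation character and the value of `ξ` at an inverting involution
-/

set_option autoImplicit false
set_option linter.style.haveILetI false
set_option linter.unusedSectionVars false

namespace Cfsg.Agent.ThreeP

open MulAction Cfsg Cfsg.Agent.Char Cfsg.Agent.DegreePTwo
open scoped ComplexConjugate

universe u v

/-- The arithmetic of the constituents. -/
theorem constituents {p a b d e : ℕ} {s ε : ℤ} (hp : p.Prime) (h5 : 5 ≤ p) (hs : s = 1 ∨ s = -1)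
    (hε : ε = 1 ∨ ε = -1) (hd : 2 ≤ d) (he : 0 < e) (hmod : (p : ℤ) ∣ (d : ℤ) - s)
    (he2 : ε * (e : ℤ) = 1 + s * (d : ℤ)) (hrel : ε * (b : ℤ) = 1 + s * (a : ℤ))
    (hdeg : (p - 1) / 2 * (b * e) + a * d + 1 ≤ 3 * p) :
    (s = -1 ∧ d = p - 1) ∨ (p = 5 ∧ s = 1 ∧ d = 6 ∧ e = 7 ∧ ε = 1 ∧ a = 0 ∧ b = 1) ∨
      (s = -1 ∧ b = 0 ∧ a = 1 ∧ (d = 2 * p - 1 ∨ d = 3 * p - 1)) := by
  obtain ⟨r, hr⟩ := hp.odd_of_ne_two (by omega)
  obtain ⟨k, hk⟩ := hmod
  have hk0 : 1 ≤ k := by
    by_contra h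
    have : (p : ℤ) * k ≤ 0 := mul_nonpos_of_nonneg_of_nonpos (by omega) (by omega)
    rcases hs with rfl | rfl <;> omega
  rcases hs with rfl | rfl
  · -- `s = 1`
    have hε1 : ε = 1 := by
      rcases hε with h | h
      · exact h
      · subst h; omega
    subst hε1
    have hpk : (p : ℤ) ≤ p * k := le_mul_of_one_le_right (by omega) hk0
    have hb : 1 ≤ b := by omega
    have he' : p + 2 ≤ e := by omega
    have h1 := Nat.mul_le_mul (le_refl ((p - 1) / 2)) (Nat.mul_le_mul hb he')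
    rw [one_mul] at h1
    have hp5 : p = 5 := by
      by_contra h
      have : p ≠ 6 := by rintro rfl; norm_num at hp
      have h3 : 3 * (p + 2) ≤ (p - 1) / 2 * (p + 2) := Nat.mul_le_mul (by omega) le_rfl
      omega
    subst hp5
    norm_num at hdeg h1
    have hb1 : b = 1 := by
      by_contra h
      have := Nat.mul_le_mul (show 2 ≤ b by omega) he'
      omega
    subst hb1
    exact Or.inr (Or.inl ⟨rfl, rfl, by omega, by omega, rfl, by omega, rfl⟩)
  · -- `s = -1`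
    have hε1 : ε = -1 := by
      rcases hε with h | h
      · subst h; omega
      · exact h
    subst hε1
    rcases eq_or_lt_of_le hk0 with h | h
    · refine Or.inl ⟨rfl, ?_⟩
      rw [← h, mul_one] at hk
      omega
    have hpk : (p : ℤ) * 2 ≤ p * k := mul_le_mul_of_nonneg_left (by omega) (by omega)
    have hd2 : 2 * p - 1 ≤ d := by omega
    have hb : b = 0 := by
      by_contra hb
      have := Nat.mul_le_mul (show 2 ≤ a by omega) hd2
      omega
    subst hb
    have ha : a = 1 := by omega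
    subst ha
    have hk3 : k ≤ 3 := by
      by_contra h'
      have h4 : (p : ℤ) * 4 ≤ p * k := mul_le_mul_of_nonneg_left (by omega) (by omega)
      omega
    refine Or.inr (Or.inr ⟨rfl, rfl, rfl, ?_⟩)
    rcases (show k = 2 ∨ k = 3 by omega) with rfl | rfl <;> omega

variable {G : Type u} [Group G] [Fintype G] {p : ℕ} {one ξ : IrrCharacter G}
  {Y : Finset (IrrCharacter G)} {s ε : ℤ} {d e : ℕ}

/-- The fixed points of a subgroup contain those of a larger one. -/
theorem sum_subgroup_mono {χ : G → ℂ} (h : Cfsg.IsCharacter G χ) {H K : Subgroup G} [Fintype H]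
    [Fintype K] (hle : H ≤ K) :
    ∃ a b : ℕ, ∑ x : H, χ (x : G) = (a : ℂ) * (Nat.card H : ℂ) ∧
      ∑ x : K, χ (x : G) = (b : ℂ) * (Nat.card K : ℂ) ∧ b ≤ a := by
  obtain ⟨m, ρ, rfl⟩ := h
  have e1 := sum_char_eq_finrank_invariants (G := H) (ρ.comp H.subtype)
  have e2 := sum_char_eq_finrank_invariants (G := K) (ρ.comp K.subtype)
  rw [inv_mul_eq_iff_eq_mul₀ (Nat.cast_ne_zero.2 Nat.card_pos.ne')] at e1 e2
  refine ⟨_, _, e1.trans (mul_comm _ _), e2.trans (mul_comm _ _), Submodule.finrank_mono fun x hx => ?_⟩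
  rw [Representation.mem_invariants] at hx ⊢
  exact fun y => hx ⟨y.1, hle y.2⟩

/-- The sum of a character over a subgroup of order `p`. -/
theorem sum_zpowers {x : G} (hx : orderOf x = p) [Fact p.Prime] {f : G → ℂ} {c : ℂ}
    (hc : ∀ g, p ∣ orderOf g → f g = c) :
    ∑ g : Subgroup.zpowers x, f (g : G) = f 1 + ((p : ℂ) - 1) * c := by
  classical
  have hp := (Fact.out : p.Prime)
  rw [← Finset.add_sum_erase _ _ (Finset.mem_univ (1 : Subgroup.zpowers x)),
    Finset.sum_congr rfl (g := fun _ => c) (fun g hg => ?_), Finset.sum_const,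
    Finset.card_erase_of_mem (Finset.mem_univ _), Finset.card_univ,
    ← Nat.card_eq_fintype_card, Nat.card_zpowers, hx, nsmul_eq_mul, Nat.cast_sub hp.one_le,
    OneMemClass.coe_one]
  · push_cast; ring
  · refine hc _ ?_
    rw [Finset.mem_erase] at hg
    rw [Subgroup.orderOf_coe, (hp.eq_one_or_self_of_dvd _
      (hx ▸ (Nat.card_zpowers x) ▸ orderOf_dvd_natCard g)).resolve_left
        fun h => hg.1 (orderOf_eq_one_iff.1 h)]

/-- `p` divides the degree of a character vanishing on the singular elements. -/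
theorem p_dvd_degree (S : Grp G p) (ψ : IrrCharacter G)
    (h0 : ∀ g : G, p ∣ orderOf g → (ψ : G → ℂ) g = 0) : p ∣ charDegree (ψ : G → ℂ) := by
  classical
  haveI := Fact.mk S.prime
  obtain ⟨x, -, hx, -, -⟩ := S.exists_pair
  obtain ⟨k, hk⟩ := exists_sum_subgroup (IsIrrCharacter.isCharacter ψ.2) (Subgroup.zpowers x)
  rw [sum_zpowers hx h0, mul_zero, add_zero, irr_degree, Nat.card_zpowers, hx] at hk
  exact Dvd.intro_left k (by exact_mod_cast hk.symm)

namespace Dat

variable (S : Grp G p) (D : Dat p one ξ Y s ε d e)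

include S D

/-- The value of `ξ` at an inverting involution. -/
theorem exists_value {x v : G} (hx : orderOf x = p) (hv : orderOf v = 2) (hvx : v * x * v⁻¹ = x⁻¹) :
    ∃ A : ℤ, ∃ a b : ℕ, (ξ : G → ℂ) v = (A : ℂ) ∧ (d : ℤ) + ((p : ℤ) - 1) * s = a * p ∧
      (d : ℤ) + ((p : ℤ) - 1) * s + p * A = b * (2 * p) ∧ b ≤ a := by
  classical
  haveI := Fact.mk S.prime
  obtain ⟨K, _, hle, hsum⟩ := S.sum_normalizer hx hv hvx
  have hcK : Nat.card K = 2 * p := by
    have h := hsum (fun _ => (1 : ℂ)) (fun _ _ => rfl) 1 fun _ _ => rfl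
    rw [Finset.sum_const, Finset.card_univ, nsmul_eq_mul, mul_one, ← Nat.card_eq_fintype_card] at h
    have h' : (Nat.card K : ℂ) = ((2 * p : ℕ) : ℂ) := by push_cast; linear_combination h
    exact_mod_cast h'
  have hξ := IsIrrCharacter.isCharacter ξ.2
  obtain ⟨a, b, ha, hb, hab⟩ := sum_subgroup_mono hξ hle
  rw [sum_zpowers hx D.sing, D.deg, Nat.card_zpowers, hx] at ha
  rw [hsum _ (IsCharacter.isClassFunction hξ) _ D.sing, D.deg, hcK] at hb
  have hp0 : (p : ℂ) ≠ 0 := Nat.cast_ne_zero.2 S.prime.ne_zero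
  have hA : (ξ : G → ℂ) v = ((2 * (b : ℤ) - (a : ℤ) : ℤ) : ℂ) := by
    refine mul_left_cancel₀ hp0 ?_
    push_cast at hb ⊢
    linear_combination hb - ha
  refine ⟨2 * (b : ℤ) - (a : ℤ), a, b, hA, ?_, ?_, hab⟩
  · exact_mod_cast ha
  · rw [hA] at hb
    exact_mod_cast hb

variable {Ω : Type v} [MulAction G Ω] [IsPretransitive G Ω] [Finite Ω]

/-- The possibilities for the permutation character. -/
theorem cases (hΩ : Nat.card Ω = 3 * p) :
    (s = -1 ∧ d = p - 1) ∨
      (p = 5 ∧ s = 1 ∧ d = 6 ∧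
        ∀ g : G, ¬ p ∣ orderOf g → (fix Ω g : ℂ) = 3 + 2 * (ξ : G → ℂ) g) ∨
      (s = -1 ∧ d = 2 * p - 1 ∧ ∃ ψ : IrrCharacter G, ψ ≠ one ∧ ψ ≠ ξ ∧ (ψ : G → ℂ) 1 = (p : ℂ) ∧
        ∀ g : G, (fix Ω g : ℂ) = 1 + (ξ : G → ℂ) g + (ψ : G → ℂ) g) ∨
      (s = -1 ∧ d = 3 * p - 1 ∧ ∀ g : G, (fix Ω g : ℂ) = 1 + (ξ : G → ℂ) g) := by
  classical
  have hp := S.prime
  have h5 := S.five
  obtain ⟨a₀⟩ := nonempty_points S hΩ
  have hfd : FiniteDimensional ℂ (MonoidAlgebra ℂ Ω) := Module.Finite.of_basis (MonoidAlgebra.basis Ω ℂ)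
  set π : G → ℂ := fun g => (fix Ω g : ℂ) with hπ
  have hπc : Cfsg.IsCharacter G π := by
    have := isCharacter_of_rep (Representation.ofMulAction ℂ G Ω)
    rwa [show (Representation.ofMulAction ℂ G Ω).character = π from
      funext fun g => character_ofMulAction Ω g] at this
  have hπsing : ∀ g : G, p ∣ orderOf g → π g = 0 := fun g hg => by
    simp only [hπ, fix_singular S hΩ hg, Nat.cast_zero]
  have hG : (Nat.card G : ℂ) ≠ 0 := Nat.cast_ne_zero.2 Nat.card_pos.ne'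
  have hnat : ∀ ψ : IrrCharacter G, ∃ c : ℕ, Cfsg.classInner π (ψ : G → ℂ) = (c : ℂ) := fun ψ =>
    IsCharacter.exists_classInner_nat hπc (IsIrrCharacter.isCharacter ψ.2)
  choose m hm using hnat
  have hinner : ∀ ψ : IrrCharacter G, ∑ g : G, π g * conj ((ψ : G → ℂ) g) = (m ψ : ℂ) * (Nat.card G : ℂ) := by
    intro ψ
    have h := hm ψ
    rw [Cfsg.classInner, inv_mul_eq_iff_eq_mul₀ hG] at h
    rw [h, mul_comm]
  have hπ1 : ∑ g : G, π g = (Nat.card G : ℂ) := by
    simp only [hπ, fix]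
    rw [← Nat.cast_sum, sum_natCard_fixedBy]
    have : Nat.card (Quotient (orbitRel G Ω)) = 1 := by
      rw [Nat.card_eq_one_iff_unique]
      refine ⟨⟨fun x y => ?_⟩, ⟨Quotient.mk _ a₀⟩⟩
      induction x using Quotient.ind with | _ a => ?_
      induction y using Quotient.ind with | _ b => ?_
      exact Quotient.sound (exists_smul_eq G b a)
    rw [this, one_mul]
  have hm1 : m one = 1 := by
    have h := hinner one
    simp only [D.one_apply, map_one, mul_one, hπ1] at h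
    have : ((m one : ℕ) : ℂ) * (Nat.card G : ℂ) = ((1 : ℕ) : ℂ) * (Nat.card G : ℂ) := by
      rw [← h]; simp
    exact_mod_cast mul_right_cancel₀ hG this
  have hmrel : ∀ χ ∈ Y, ε * (m χ : ℤ) = 1 + s * (m ξ : ℤ) := by
    intro χ hχ
    have e : ∑ g : G, π g * conj ((ε : ℂ) * (χ : G → ℂ) g - 1 - (s : ℂ) * (ξ : G → ℂ) g) = 0 := by
      refine Finset.sum_eq_zero fun g _ => ?_
      by_cases hg : p ∣ orderOf g
      · rw [hπsing g hg, zero_mul]
      · rw [D.regY χ hχ g hg]; simp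
    simp only [map_sub, map_mul, map_one, map_intCast, mul_sub, mul_one, Finset.sum_sub_distrib,
      mul_left_comm (π _), ← Finset.mul_sum, hinner, hπ1] at e
    have h : ((ε * (m χ : ℤ) : ℤ) : ℂ) = ((1 + s * (m ξ : ℤ) : ℤ) : ℂ) := by
      push_cast
      refine mul_right_cancel₀ hG ?_
      linear_combination e
    exact_mod_cast h
  obtain ⟨χ₀, hχ₀⟩ : ∃ χ, χ ∈ Y := Finset.card_pos.1 (show 0 < Y.card by rw [D.card_Y]; omega)
  have hmY : ∀ χ ∈ Y, m χ = m χ₀ := by
    intro χ hχ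
    have h0 : ε ≠ 0 := by rcases D.signY with h | h <;> omega
    exact_mod_cast mul_left_cancel₀ h0 ((hmrel χ hχ).trans (hmrel χ₀ hχ₀).symm)
  have hdec : ∀ g, π g = ∑ ψ : IrrCharacter G, (m ψ : ℂ) * (ψ : G → ℂ) g := by
    intro g
    have h := congrFun (classFunction_eq_sum (IsCharacter.isClassFunction hπc)) g
    simp only [Finset.sum_apply, Pi.smul_apply, smul_eq_mul, hm] at h
    exact h
  set B : Finset (IrrCharacter G) := insert one (insert ξ Y) with hB
  have h1B : one ∉ insert ξ Y := by simp [D.ne, D.one_notMem]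
  -- the decomposition
  have hsplit : ∀ g, π g = 1 + (m ξ : ℂ) * (ξ : G → ℂ) g + (m χ₀ : ℂ) * ∑ χ ∈ Y, (χ : G → ℂ) g +
      ∑ ψ ∈ Finset.univ \ B, (m ψ : ℂ) * (ψ : G → ℂ) g := by
    intro g
    rw [hdec g, ← Finset.sum_sdiff (Finset.subset_univ B), hB, Finset.sum_insert h1B,
      Finset.sum_insert D.xi_notMem, hm1, D.one_apply, Nat.cast_one, one_mul, Finset.mul_sum,
      Finset.sum_congr rfl (s₁ := Y) fun χ hχ => show (m χ : ℂ) * (χ : G → ℂ) g = _ by rw [hmY χ hχ]]
    ring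
  have hdeg : 3 * p = 1 + m ξ * d + m χ₀ * ((p - 1) / 2 * e) +
      ∑ ψ ∈ Finset.univ \ B, m ψ * charDegree (ψ : G → ℂ) := by
    have h := hsplit 1
    simp only [hπ] at h
    rw [fix_one, hΩ, D.deg, Finset.sum_congr rfl D.degY, Finset.sum_const, D.card_Y, nsmul_eq_mul,
      Finset.sum_congr rfl (g := fun ψ : IrrCharacter G => ((m ψ * charDegree (ψ : G → ℂ) : ℕ) : ℂ))
        (fun ψ _ => by rw [irr_degree, Nat.cast_mul]), ← Nat.cast_sum] at h
    exact_mod_cast h
  have hbud : (p - 1) / 2 * (m χ₀ * e) + m ξ * d + 1 ≤ 3 * p := by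
    rw [mul_left_comm]
    omega
  have hdeg0 : ∀ ψ : IrrCharacter G, 0 < charDegree (ψ : G → ℂ) := by
    intro ψ
    obtain ⟨k, hk0, hk⟩ := IsIrrCharacter.exists_degree ψ.2
    rw [charDegree, hk, Complex.natCast_re, Nat.floor_natCast]
    omega
  have hdvd : ∀ ψ ∈ Finset.univ \ B, p ∣ charDegree (ψ : G → ℂ) := by
    intro ψ hψ
    simp only [hB, Finset.mem_sdiff, Finset.mem_univ, true_and, Finset.mem_insert, not_or] at hψ
    exact p_dvd_degree S ψ (D.vanishing S ψ hψ.1 hψ.2.1 hψ.2.2)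
  rcases constituents hp h5 D.sign D.signY D.two_le D.pos D.dmod D.erel (hmrel χ₀ hχ₀) hbud with
    h | ⟨rfl, hs, hd, he, hε, ha, hb⟩ | ⟨hs, hb, ha, hd⟩
  · exact Or.inl h
  · refine Or.inr (Or.inl ⟨rfl, hs, hd, fun g hg => ?_⟩)
    rw [ha, hb, hd, he] at hdeg
    have hrest : ∀ ψ ∈ Finset.univ \ B, m ψ * charDegree (ψ : G → ℂ) = 0 :=
      Finset.sum_eq_zero_iff.1 (by omega)
    show π g = _
    have h0 : ∑ ψ ∈ Finset.univ \ B, (m ψ : ℂ) * (ψ : G → ℂ) g = 0 := Finset.sum_eq_zero fun ψ hψ => by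
      rw [(Nat.mul_eq_zero.1 (hrest ψ hψ)).resolve_right (hdeg0 ψ).ne', Nat.cast_zero, zero_mul]
    rw [hsplit g, h0, ha, hb, Finset.sum_congr rfl (g := fun _ => 1 + (ξ : G → ℂ) g) (fun χ hχ => ?_), Finset.sum_const,
      D.card_Y, nsmul_eq_mul]
    · norm_num; ring
    · have h := D.regY χ hχ g hg
      rw [hε, hs] at h
      push_cast at h
      linear_combination h
  · refine Or.inr (Or.inr ?_)
    rw [ha, hb, one_mul, zero_mul, add_zero] at hdeg
    rcases hd with hd | hd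
    · refine Or.inl ⟨hs, hd, ?_⟩
      have hR : ∑ ψ ∈ Finset.univ \ B, m ψ * charDegree (ψ : G → ℂ) = p := by omega
      obtain ⟨ψ, hψ, hψm⟩ : ∃ ψ ∈ Finset.univ \ B, m ψ * charDegree (ψ : G → ℂ) ≠ 0 :=
        Finset.exists_ne_zero_of_sum_ne_zero (by omega)
      have hψ' := hψ
      simp only [hB, Finset.mem_sdiff, Finset.mem_univ, true_and, Finset.mem_insert, not_or] at hψ'
      rw [← Finset.add_sum_erase _ _ hψ] at hR
      have hmψ : 0 < m ψ := Nat.pos_of_ne_zero fun h => hψm (by rw [h, zero_mul])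
      have hdψ : charDegree (ψ : G → ℂ) = p ∧ m ψ = 1 ∧
          ∑ φ ∈ (Finset.univ \ B).erase ψ, m φ * charDegree (φ : G → ℂ) = 0 := by
        have h1 := Nat.le_of_dvd (hdeg0 ψ) (hdvd ψ hψ)
        have h2 : charDegree (ψ : G → ℂ) ≤ m ψ * charDegree (ψ : G → ℂ) := Nat.le_mul_of_pos_left _ hmψ
        have h3 : charDegree (ψ : G → ℂ) = p := by omega
        rw [h3] at hR h2
        refine ⟨h3, ?_, by omega⟩
        by_contra h
        have := Nat.mul_le_mul (show 2 ≤ m ψ by omega) (le_refl p)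
        omega
      refine ⟨ψ, hψ'.1, hψ'.2.1, by rw [irr_degree, hdψ.1], fun g => ?_⟩
      show π g = _
      have h0 : ∑ φ ∈ (Finset.univ \ B).erase ψ, (m φ : ℂ) * (φ : G → ℂ) g = 0 :=
        Finset.sum_eq_zero fun φ hφ => by
          rw [(Nat.mul_eq_zero.1 (Finset.sum_eq_zero_iff.1 hdψ.2.2 φ hφ)).resolve_right (hdeg0 φ).ne',
            Nat.cast_zero, zero_mul]
      rw [hsplit g, ← Finset.add_sum_erase _ _ hψ, h0, ha, hb, hdψ.2.1]
      push_cast
      ring
    · refine Or.inr ⟨hs, hd, fun g => ?_⟩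
      have hrest : ∀ ψ ∈ Finset.univ \ B, m ψ * charDegree (ψ : G → ℂ) = 0 :=
        Finset.sum_eq_zero_iff.1 (by omega)
      show π g = _
      have h0 : ∑ ψ ∈ Finset.univ \ B, (m ψ : ℂ) * (ψ : G → ℂ) g = 0 := Finset.sum_eq_zero fun ψ hψ => by
        rw [(Nat.mul_eq_zero.1 (hrest ψ hψ)).resolve_right (hdeg0 ψ).ne', Nat.cast_zero, zero_mul]
      rw [hsplit g, h0, ha, hb]
      push_cast
      ring

/-- Involutions form one class, and the order is given by the master equation. -/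
theorem master {x v : G} {A : ℤ} (hx : orderOf x = p) (hv : orderOf v = 2) (hvx : v * x * v⁻¹ = x⁻¹)
    (hA : (ξ : G → ℂ) v = (A : ℂ)) :
    (∀ w : G, orderOf w = 2 → IsConj v w) ∧ A ≠ d ∧
      (Nat.card G : ℤ) * ((d : ℤ) - A) ^ 2 = p * d * ((d : ℤ) + s) *
        (Nat.card (Subgroup.centralizer ({v} : Set G)) : ℤ) ^ 2 := by
  classical
  have hxs : p ∣ orderOf x := by rw [hx]
  have hne : A ≠ d := fun h => by
    have := D.ker v (by rw [hA, h]; norm_cast)
    rw [this, orderOf_one] at hv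
    omega
  refine ⟨fun w hw => ?_, hne, ?_⟩
  · by_contra hcon
    have h := D.class_count S hv hw (x := x) hxs
    rw [Finset.filter_eq_empty_iff.2 (fun j _ hj => hcon (S.isConj_of_product hx hv hw hvx hj)),
      Finset.card_empty, Nat.cast_zero, mul_zero, zero_mul, eq_comm, mul_eq_zero, mul_eq_zero,
      hA] at h
    rcases h with (h | h) | h
    · exact Nat.card_pos.ne' (Nat.cast_eq_zero.1 h)
    · have := D.ker w (sub_eq_zero.1 h).symm
      rw [this, orderOf_one] at hw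
      omega
    · rw [sub_eq_zero] at h
      exact hne (by exact_mod_cast h.symm)
  · have h := D.class_count S hv hv (x := x) hxs
    rw [S.card_pairs hx hv hvx, hA] at h
    have h' : (((Nat.card G : ℤ) * ((d : ℤ) - A) ^ 2 : ℤ) : ℂ) = (((p : ℤ) * d * ((d : ℤ) + s) *
        (Nat.card (Subgroup.centralizer ({v} : Set G)) : ℤ) ^ 2 : ℤ) : ℂ) := by
      push_cast at h ⊢
      linear_combination -h
    exact_mod_cast h'

end Dat

end Cfsg.Agent.ThreeP
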