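import Cfsg.Agent.Lib.ThreeP.Perm
import Cfsg.Agent.Lib.Char.Convolution

/-!
# Degree `3p`: the rank three case

The permutation character is `1 + ξ + ψ`. The projection on the constituent `ξ` is constant on the three
orbitals; its trace, row sums, sum along an element of order `p` and idempotency give
`2 p = 6 r ^ 2 + 3 r + 1`, the subdegrees being `p + r` and `2 p - 1 - r`. When involutions fix three
points, the Sylow `2`-subgroups have order `8`.
-/

set_option autoImplicit false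
set_option linter.style.haveILetI false
set_option linter.unusedSectionVars false

namespace Cfsg.Agent.ThreeP

open MulAction Cfsg Cfsg.Agent.Char Cfsg.Agent.DegreePTwo
open scoped ComplexConjugate

universe u v

/-- The linear relations between the three values of the projection. -/
theorem params_linear {p k m : ℤ} (hp : p ≠ 0) {e0 β γ : ℂ} (h0 : 3 * (p : ℂ) * e0 = 2 * (p : ℂ) - 1)
    (row : e0 + (k : ℂ) * β + (3 * (p : ℂ) - 1) * γ = 0)
    (shift : (p : ℂ) * (m : ℂ) * β + 3 * (p : ℂ) * γ = -1) :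
    β * ((m : ℂ) + 3 * ((k : ℂ) - (p : ℂ) * (m : ℂ))) = 1 := by
  have hp' : (p : ℂ) ≠ 0 := Int.cast_ne_zero.2 hp
  refine mul_left_cancel₀ hp' ?_
  linear_combination (3 * (p : ℂ)) * row - (3 * (p : ℂ) - 1) * shift - h0

/-- The quadratic relation between them. -/
theorem params_quadratic {p k m r : ℤ} (hp : p ≠ 0) (hr : r = k - p * m) {e0 β γ : ℂ}
    (h0 : 3 * (p : ℂ) * e0 = 2 * (p : ℂ) - 1) (hβ : β * ((m : ℂ) + 3 * (r : ℂ)) = 1)
    (shift : (p : ℂ) * (m : ℂ) * β + 3 * (p : ℂ) * γ = -1)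
    (norm : e0 * e0 + (k : ℂ) * ((β + γ) * (β + γ)) + (3 * (p : ℂ) - 1 - (k : ℂ)) * (γ * γ) = e0) :
    6 * r * r + (6 * m - 3) * r + m * m = p * (3 * m - m * m) := by
  have hp' : (p : ℂ) ≠ 0 := Int.cast_ne_zero.2 hp
  have hk : (k : ℂ) = (r : ℂ) + (p : ℂ) * (m : ℂ) := by rw [hr]; push_cast; ring
  have hD : (m : ℂ) + 3 * (r : ℂ) ≠ 0 := fun h => by rw [h, mul_zero] at hβ; exact zero_ne_one hβ
  have hb : β = 1 / ((m : ℂ) + 3 * (r : ℂ)) := by rw [eq_div_iff hD, hβ]
  have hg : γ = (-1 - (p : ℂ) * (m : ℂ) * β) / (3 * (p : ℂ)) := by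
    rw [eq_div_iff (mul_ne_zero (by norm_num) hp')]; linear_combination shift
  have he : e0 = (2 * (p : ℂ) - 1) / (3 * (p : ℂ)) := by
    rw [eq_div_iff (mul_ne_zero (by norm_num) hp')]; linear_combination h0
  rw [he, hg, hb, hk] at norm
  field_simp at norm
  have : ((6 * r * r + (6 * m - 3) * r + m * m : ℤ) : ℂ) = ((p * (3 * m - m * m) : ℤ) : ℂ) := by
    refine mul_left_cancel₀ (mul_ne_zero (mul_ne_zero (show (-3 : ℂ) ≠ 0 by norm_num) hp') hp') ?_
    push_cast
    linear_combination norm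
  exact_mod_cast this

/-- The residue of the parameter. -/
theorem r_mod_eight {p r : ℤ} (hp : p % 4 = 1) (h : 6 * r * r + 3 * r + 1 = 2 * p) : r % 8 = 1 := by
  obtain ⟨t, c, hc, hc8, rfl⟩ : ∃ t c : ℤ, 0 ≤ c ∧ c < 8 ∧ r = 8 * t + c :=
    ⟨r / 8, r % 8, Int.emod_nonneg _ (by norm_num), Int.emod_lt_of_pos _ (by norm_num),
      (Int.mul_ediv_add_emod r 8).symm⟩
  have key : 6 * (8 * t + c) * (8 * t + c) + 3 * (8 * t + c) + 1 =
      8 * (48 * t * t + 12 * t * c + 3 * t) + (6 * c * c + 3 * c + 1) := by ring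
  rw [key] at h
  generalize 48 * t * t + 12 * t * c + 3 * t = M at h
  interval_cases c <;> omega

variable {G : Type u} [Group G] [Fintype G] {p : ℕ} {one ξ : IrrCharacter G}
  {Y : Finset (IrrCharacter G)} {s ε : ℤ} {d e : ℕ}
  {Ω : Type v} [MulAction G Ω] [IsPretransitive G Ω] [FaithfulSMul G Ω] [Finite Ω]

/-- The orbital of a pair. -/
def orb (a b : Ω) : Quotient (orbitRel G (Ω × Ω)) := Quotient.mk _ (a, b)

theorem orb_smul (g : G) (a b : Ω) : orb (G := G) (g • a) (g • b) = orb a b :=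
  Quotient.sound ⟨g, rfl⟩

theorem orb_eq {a b a' b' : Ω} (h : orb (G := G) a' b' = orb a b) : ∃ g : G, g • a = a' ∧ g • b = b' := by
  obtain ⟨g, hg⟩ := Quotient.exact h
  exact ⟨g, congrArg Prod.fst hg, congrArg Prod.snd hg⟩

theorem orb_diag {a b c : Ω} (h : orb (G := G) b c = orb a a) : b = c := by
  obtain ⟨g, h1, h2⟩ := orb_eq h
  rw [← h1, ← h2]

/-- The number of points in an orbital relation to a given one does not depend on it. -/
theorem deg_eq (q : Quotient (orbitRel G (Ω × Ω))) (a a' : Ω) :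
    Nat.card {b : Ω // orb (G := G) a b = q} = Nat.card {b : Ω // orb (G := G) a' b = q} := by
  obtain ⟨g, rfl⟩ := exists_smul_eq G a a'
  refine Nat.card_congr ((MulAction.toPerm g).subtypeEquiv fun b => ?_)
  rw [MulAction.toPerm_apply, orb_smul]

/-- A subdegree times the order of the two-point stabiliser. -/
theorem deg_mul (a b : Ω) :
    Nat.card {c : Ω // orb (G := G) a c = orb a b} * Nat.card ↥(stabilizer G a ⊓ stabilizer G b) =
      Nat.card (stabilizer G a) := by
  have e : {c : Ω | orb (G := G) a c = orb a b} = orbit (stabilizer G a) b := by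
    ext c
    constructor
    · intro h
      obtain ⟨g, h1, h2⟩ := orb_eq h
      exact ⟨⟨g, h1⟩, h2⟩
    · rintro ⟨⟨g, hg⟩, rfl⟩
      show orb (G := G) a (g • b) = orb a b
      conv_lhs => rw [show a = g • a from hg.symm]
      exact orb_smul g a b
  have h := Subgroup.index_mul_card (stabilizer (stabilizer G a) b)
  rw [index_stabilizer, ← e, ← Nat.card_coe_set_eq] at h
  rw [← h]
  congr 1
  refine Nat.card_congr
    { toFun := fun g => ⟨⟨g.1, g.2.1⟩, g.2.2⟩
      invFun := fun g => ⟨g.1.1, g.1.2, g.2⟩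
      left_inv := fun g => rfl
      right_inv := fun g => rfl }

theorem fix_inv (g : G) : fix Ω g⁻¹ = fix Ω g := by
  refine Nat.card_congr (Equiv.setCongr ?_)
  ext a
  simp only [mem_fixedBy]
  rw [inv_smul_eq_iff, eq_comm]

/-- The projection on a constituent. -/
noncomputable def proj (ξ : G → ℂ) (d : ℕ) (a b : Ω) : ℂ :=
  (d : ℂ) / (Nat.card G : ℂ) * ∑ g : G, (open scoped Classical in if g • a = b then ξ g else 0)

theorem proj_smul {f : G → ℂ} (hf : Cfsg.IsClassFunction G f) (h : G) (a b : Ω) :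
    proj f d (h • a) (h • b) = proj f d a b := by
  classical
  unfold proj
  congr 1
  refine Fintype.sum_equiv (MulAut.conj h⁻¹).toEquiv _ _ fun g => ?_
  simp only [MulEquiv.toEquiv_eq_coe, MulEquiv.coe_toEquiv, MulAut.conj_apply, inv_inv]
  have e1 : f (h⁻¹ * g * h) = f g := by
    have := hf g h⁻¹
    rwa [inv_inv] at this
  have e2 : (h⁻¹ * g * h) • a = b ↔ g • h • a = h • b := by
    rw [mul_smul, mul_smul, inv_smul_eq_iff]
  simp only [e1, e2]

/-- A point count along the orbitals. -/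
theorem sum_orb [Fintype Ω] (q0 q1 q2 : Quotient (orbitRel G (Ω × Ω)))
    [DecidableEq (Quotient (orbitRel G (Ω × Ω)))] (h01 : q0 ≠ q1) (h02 : q0 ≠ q2) (h12 : q1 ≠ q2)
    (hall : ∀ q, q = q0 ∨ q = q1 ∨ q = q2) (f : Ω → Quotient (orbitRel G (Ω × Ω)))
    (w : Quotient (orbitRel G (Ω × Ω)) → ℂ) :
    ∑ a, w (f a) = (Nat.card {a // f a = q0} : ℂ) * w q0 + (Nat.card {a // f a = q1} : ℂ) * w q1 +
      (Nat.card {a // f a = q2} : ℂ) * w q2 := by
  classical
  have hc : ∀ q, (Nat.card {a // f a = q} : ℂ) * w q =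
      ∑ a ∈ Finset.univ.filter (fun a => f a = q), w (f a) := by
    intro q
    rw [Finset.sum_congr rfl (g := fun _ => w q) (fun a ha => by rw [(Finset.mem_filter.1 ha).2]),
      Finset.sum_const, nsmul_eq_mul, Nat.card_eq_fintype_card, Fintype.card_subtype]
  rw [hc, hc, hc, Finset.sum_filter, Finset.sum_filter, Finset.sum_filter, ← Finset.sum_add_distrib,
    ← Finset.sum_add_distrib]
  refine Finset.sum_congr rfl fun a _ => ?_
  rcases hall (f a) with h | h | h <;> simp [h, h01, h02, h12, h01.symm, h02.symm, h12.symm]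

variable (S : Grp G p) (D : Dat p one ξ Y s ε d e)

include S D

/-- The two subdegrees. -/
theorem subdegrees (hΩ : Nat.card Ω = 3 * p) (hs : s = -1) (hd : d = 2 * p - 1) {ψ : IrrCharacter G}
    (hψ1 : ψ ≠ one) (hψξ : ψ ≠ ξ)
    (hπ : ∀ g : G, (fix Ω g : ℂ) = 1 + (ξ : G → ℂ) g + (ψ : G → ℂ) g) (a₀ : Ω) :
    ∃ (q1 q2 : Quotient (orbitRel G (Ω × Ω))) (r : ℤ), q1 ≠ q2 ∧
      (∀ a b : Ω, a ≠ b → orb a b = q1 ∨ orb a b = q2) ∧
      (∀ a b : Ω, orb a b = q1 ∨ orb a b = q2 → a ≠ b) ∧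
      6 * r * r + 3 * r + 1 = 2 * (p : ℤ) ∧
      (Nat.card {b : Ω // orb (G := G) a₀ b = q1} : ℤ) = (p : ℤ) + r ∧
      (Nat.card {b : Ω // orb (G := G) a₀ b = q2} : ℤ) = 2 * (p : ℤ) - 1 - r := by
  classical
  haveI := Fintype.ofFinite Ω
  haveI := Fact.mk S.prime
  have h5 := S.five
  have hG : (Nat.card G : ℂ) ≠ 0 := Nat.cast_ne_zero.2 Nat.card_pos.ne'
  have hd0 : (d : ℂ) ≠ 0 := Nat.cast_ne_zero.2 (by omega)
  have hdC : (d : ℂ) = 2 * (p : ℂ) - 1 := by
    rw [hd, Nat.cast_sub (by omega)]; push_cast; ring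
  have hξc := IsCharacter.isClassFunction (IsIrrCharacter.isCharacter ξ.2)
  -- three orbitals
  have h3 : Nat.card (Quotient (orbitRel G (Ω × Ω))) = 3 := by
    have h := sum_natCard_fixedBy (G := G) (Ω × Ω)
    have e : ∀ g : G, Nat.card (fixedBy (Ω × Ω) g) = fix Ω g * fix Ω g := by
      intro g
      unfold fix
      rw [← Nat.card_prod]
      exact Nat.card_congr ((Equiv.subtypeEquivRight fun x => by simp [fixedBy, Prod.ext_iff]).trans
        (Equiv.subtypeProdEquivProd (p := fun x : Ω => g • x = x) (q := fun x : Ω => g • x = x)))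
    simp only [e] at h
    have hc : ∀ g : G, (fix Ω g : ℂ) * (fix Ω g : ℂ) =
        ((one : G → ℂ) g + (ξ : G → ℂ) g + (ψ : G → ℂ) g) *
          conj ((one : G → ℂ) g + (ξ : G → ℂ) g + (ψ : G → ℂ) g) := fun g => by
      rw [D.one_apply, ← hπ g, map_natCast]
    have h' : ∑ g : G, (fix Ω g : ℂ) * (fix Ω g : ℂ) = 3 * (Nat.card G : ℂ) := by
      simp only [hc, map_add, add_mul, mul_add, Finset.sum_add_distrib, sum_irr]
      simp [D.ne, D.ne.symm, hψ1, hψ1.symm, hψξ, hψξ.symm]
      ring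
    have h'' : ((∑ g : G, fix Ω g * fix Ω g : ℕ) : ℂ) = ((3 * Nat.card G : ℕ) : ℂ) := by
      push_cast; exact h'
    rw [Nat.cast_inj, h] at h''
    exact Nat.eq_of_mul_eq_mul_right Nat.card_pos h''
  set q0 : Quotient (orbitRel G (Ω × Ω)) := orb a₀ a₀ with hq0
  have hdiag : ∀ a : Ω, orb (G := G) a a = q0 := fun a => by
    obtain ⟨g, rfl⟩ := exists_smul_eq G a₀ a
    exact orb_smul g a₀ a₀
  obtain ⟨q1, q2, h01, h02, h12, hall⟩ : ∃ q1 q2, q0 ≠ q1 ∧ q0 ≠ q2 ∧ q1 ≠ q2 ∧
      ∀ q, q = q0 ∨ q = q1 ∨ q = q2 := by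
    haveI := Fintype.ofFinite (Quotient (orbitRel G (Ω × Ω)))
    rw [Nat.card_eq_fintype_card, ← Finset.card_univ] at h3
    have h2 : ((Finset.univ : Finset (Quotient (orbitRel G (Ω × Ω)))).erase q0).card = 2 := by
      rw [Finset.card_erase_of_mem (Finset.mem_univ _), h3]
    obtain ⟨q1, q2, h12, he⟩ := Finset.card_eq_two.1 h2
    refine ⟨q1, q2, ?_, ?_, h12, fun q => ?_⟩
    · exact (Finset.ne_of_mem_erase (he ▸ Finset.mem_insert_self q1 {q2} : q1 ∈ Finset.univ.erase q0)).symm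
    · exact (Finset.ne_of_mem_erase
        (he ▸ Finset.mem_insert_of_mem (Finset.mem_singleton_self q2) : q2 ∈ Finset.univ.erase q0)).symm
    · by_cases hq : q = q0
      · exact Or.inl hq
      · have : q ∈ Finset.univ.erase q0 := Finset.mem_erase.2 ⟨hq, Finset.mem_univ q⟩
        rw [he, Finset.mem_insert, Finset.mem_singleton] at this
        exact Or.inr this
  -- the projection
  set E : Ω → Ω → ℂ := proj (ξ : G → ℂ) d with hE
  let w : Quotient (orbitRel G (Ω × Ω)) → ℂ := Quotient.lift (fun z => E z.1 z.2) (by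
    rintro ⟨a, b⟩ ⟨a', b'⟩ ⟨g, hg⟩
    have h1 : g • a' = a := congrArg Prod.fst hg
    have h2 : g • b' = b := congrArg Prod.snd hg
    show E a b = E a' b'
    rw [← h1, ← h2, hE, proj_smul hξc])
  have hw : ∀ a b, E a b = w (orb a b) := fun a b => rfl
  have hrow : ∀ a, ∑ b, E a b = 0 := by
    intro a
    simp only [hE, proj, ← Finset.mul_sum]
    rw [Finset.sum_comm]
    simp [D.sum_xi S]
  have hherm : ∀ a b, E b a = conj (E a b) := by
    intro a b
    simp only [hE, proj, map_mul, map_div₀, map_natCast, map_sum]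
    congr 1
    refine Fintype.sum_equiv (Equiv.inv G) _ _ fun g => ?_
    simp only [Equiv.inv_apply, inv_smul_eq_iff, eq_comm (a := a)]
    split_ifs with hg
    · rw [IsCharacter.inv (IsIrrCharacter.isCharacter ξ.2), Complex.conj_conj]
    · rw [map_zero]
  have hsum : ∀ h : G, ∑ a, E a (h • a) = (ξ : G → ℂ) h := by
    intro h
    simp only [hE, proj, ← Finset.mul_sum]
    rw [Finset.sum_comm]
    have e : ∀ g : G, ∑ a : Ω, (if g • a = h • a then (ξ : G → ℂ) g else 0) =
        (ξ : G → ℂ) g * ((fix Ω (g⁻¹ * h) : ℕ) : ℂ) := by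
      intro g
      rw [Finset.sum_ite, Finset.sum_const_zero, add_zero, Finset.sum_const, nsmul_eq_mul, mul_comm]
      congr 2
      unfold fix
      rw [Nat.card_eq_fintype_card, ← Fintype.card_subtype]
      refine Fintype.card_congr (Equiv.subtypeEquivRight fun a => ?_)
      simp only [mem_fixedBy, mul_smul, inv_smul_eq_iff]
      exact eq_comm
    simp only [e, hπ, mul_add, mul_one, Finset.sum_add_distrib, D.sum_xi S]
    rw [Cfsg.Agent.CharX.convolution, Cfsg.Agent.CharX.convolution, if_pos rfl, if_neg hψξ.symm, D.deg]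
    field_simp
    ring
  have hidem : ∀ a c, ∑ b, E a b * E b c = E a c := by
    intro a c
    simp only [hE, proj]
    have e : ∀ b : Ω, (d : ℂ) / (Nat.card G : ℂ) * (∑ g : G, if g • a = b then (ξ : G → ℂ) g else 0) *
        ((d : ℂ) / (Nat.card G : ℂ) * ∑ g : G, if g • b = c then (ξ : G → ℂ) g else 0) =
        (d : ℂ) / (Nat.card G : ℂ) * ((d : ℂ) / (Nat.card G : ℂ)) *
          ∑ g : G, ∑ h : G, if g • a = b then (if h • b = c then (ξ : G → ℂ) g * (ξ : G → ℂ) h else 0)
            else 0 := by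
      intro b
      rw [mul_mul_mul_comm, Finset.sum_mul_sum]
      refine congrArg _ (Finset.sum_congr rfl fun g _ => Finset.sum_congr rfl fun h _ => ?_)
      by_cases h1 : g • a = b <;> by_cases h2 : h • b = c <;> simp [h1, h2]
    simp only [e, ← Finset.mul_sum]
    rw [Finset.sum_comm]
    have e2 : ∀ g : G, ∑ b : Ω, ∑ h : G,
        (if g • a = b then (if h • b = c then (ξ : G → ℂ) g * (ξ : G → ℂ) h else 0) else 0) =
        ∑ k : G, if k • a = c then (ξ : G → ℂ) g * (ξ : G → ℂ) (g⁻¹ * k) else 0 := by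
      intro g
      rw [Finset.sum_comm]
      refine Fintype.sum_equiv (Equiv.mulRight g) _ _ fun h => ?_
      rw [Finset.sum_ite_eq, if_pos (Finset.mem_univ _), Equiv.coe_mulRight, mul_smul]
      have e3 : (ξ : G → ℂ) (g⁻¹ * (h * g)) = (ξ : G → ℂ) h := by
        have := hξc h g⁻¹
        rwa [inv_inv, mul_assoc] at this
      rw [e3]
    simp only [e2]
    rw [Finset.sum_comm]
    have e4 : ∀ k : G, ∑ g : G, (if k • a = c then (ξ : G → ℂ) g * (ξ : G → ℂ) (g⁻¹ * k) else 0) =
        (Nat.card G : ℂ) / (d : ℂ) * (if k • a = c then (ξ : G → ℂ) k else 0) := by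
      intro k
      split_ifs
      · rw [Cfsg.Agent.CharX.convolution, if_pos rfl, D.deg]
        ring
      · simp
    simp only [e4, ← Finset.mul_sum]
    field_simp
  -- the counts
  have hk0 : Nat.card {b : Ω // orb (G := G) a₀ b = q0} = 1 := by
    rw [Nat.card_eq_one_iff_unique]
    exact ⟨⟨fun b c => Subtype.ext ((orb_diag b.2).symm.trans (orb_diag c.2))⟩, ⟨⟨a₀, rfl⟩⟩⟩
  set k := Nat.card {b : Ω // orb (G := G) a₀ b = q1} with hk
  set l := Nat.card {b : Ω // orb (G := G) a₀ b = q2} with hl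
  have hkl : (k : ℂ) + (l : ℂ) = 3 * (p : ℂ) - 1 := by
    have h := sum_orb q0 q1 q2 h01 h02 h12 hall (orb a₀) fun _ => 1
    rw [Finset.sum_const, Finset.card_univ, nsmul_eq_mul, ← Nat.card_eq_fintype_card, hΩ, hk0, ← hk,
      ← hl] at h
    push_cast at h
    linear_combination -h
  obtain ⟨x, v, hx, -, -⟩ := S.exists_pair
  have hxs : p ∣ orderOf x := by rw [hx]
  have hdvd : ∀ q, p ∣ Nat.card {a : Ω // orb (G := G) a (x • a) = q} := by
    intro q
    let σ : Equiv.Perm {a : Ω // orb (G := G) a (x • a) = q} := (MulAction.toPerm x).subtypePerm fun a => by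
      show orb (G := G) (x • a) (x • x • a) = q ↔ orb (G := G) a (x • a) = q
      rw [orb_smul]
    have hpow : ∀ (n : ℕ) (a : {a : Ω // orb (G := G) a (x • a) = q}), ((σ ^ n) a : Ω) = x ^ n • (a : Ω) := by
      intro n
      induction n with
      | zero => simp
      | succ n ih => intro a; rw [pow_succ, Equiv.Perm.mul_apply, ih, pow_succ, mul_smul]; rfl
    have hσ : σ ^ p ^ 1 = 1 := by
      refine Equiv.ext fun a => Subtype.ext ?_
      rw [pow_one, hpow, ← hx, pow_orderOf_eq_one, one_smul, Equiv.Perm.one_apply]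
    have h := Equiv.Perm.card_compl_support_modEq hσ
    have h0 : σ.supportᶜ.card = 0 := by
      rw [Finset.card_eq_zero, Finset.eq_empty_iff_forall_notMem]
      intro a ha
      rw [Finset.mem_compl, Equiv.Perm.notMem_support] at ha
      exact no_fixed S hΩ hxs a.1 (congrArg Subtype.val ha)
    rw [h0, ← Nat.card_eq_fintype_card] at h
    exact Nat.dvd_of_mod_eq_zero h.symm
  have hn0 : Nat.card {a : Ω // orb (G := G) a (x • a) = q0} = 0 := by
    have : IsEmpty {a : Ω // orb (G := G) a (x • a) = q0} :=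
      ⟨fun a => no_fixed S hΩ hxs a.1 (orb_diag a.2).symm⟩
    exact Nat.card_of_isEmpty
  obtain ⟨m1, hm1⟩ := hdvd q1
  obtain ⟨m2, hm2⟩ := hdvd q2
  have hm : m1 + m2 = 3 := by
    have h := sum_orb q0 q1 q2 h01 h02 h12 hall (fun a => orb a (x • a)) fun _ => 1
    rw [Finset.sum_const, Finset.card_univ, nsmul_eq_mul, ← Nat.card_eq_fintype_card, hΩ, hn0, hm1,
      hm2] at h
    have h' : ((p * 3 : ℕ) : ℂ) = ((p * (m1 + m2) : ℕ) : ℂ) := by
      push_cast at h ⊢; linear_combination h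
    exact (Nat.eq_of_mul_eq_mul_left S.prime.pos (by exact_mod_cast h')).symm
  -- the relations
  have e0 : 3 * (p : ℂ) * w q0 = 2 * (p : ℂ) - 1 := by
    have h := hsum 1
    simp only [one_smul, hw, hdiag] at h
    rw [Finset.sum_const, Finset.card_univ, nsmul_eq_mul, ← Nat.card_eq_fintype_card, hΩ, D.deg, hdC] at h
    push_cast at h
    exact h
  have hrow' : w q0 + (k : ℂ) * w q1 + (l : ℂ) * w q2 = 0 := by
    have h := hrow a₀
    simp only [hw] at h
    rw [sum_orb q0 q1 q2 h01 h02 h12 hall (orb a₀) w, hk0, ← hk, ← hl] at h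
    push_cast at h
    linear_combination h
  have hshift : (p : ℂ) * (m1 : ℂ) * w q1 + (p : ℂ) * (m2 : ℂ) * w q2 = -1 := by
    have h := hsum x
    simp only [hw] at h
    rw [sum_orb q0 q1 q2 h01 h02 h12 hall (fun a => orb a (x • a)) w, hn0, hm1, hm2, D.sing x hxs, hs] at h
    push_cast at h
    linear_combination h
  set β := w q1 - w q2 with hβdef
  set γ := w q2 with hγdef
  have hpz : (p : ℤ) ≠ 0 := by omega
  have hm' : (m1 : ℂ) + (m2 : ℂ) = 3 := by exact_mod_cast hm
  have row2 : w q0 + ((k : ℤ) : ℂ) * β + (3 * ((p : ℤ) : ℂ) - 1) * γ = 0 := by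
    push_cast
    rw [hβdef]
    linear_combination hrow' - γ * hkl
  have shift2 : ((p : ℤ) : ℂ) * ((m1 : ℤ) : ℂ) * β + 3 * ((p : ℤ) : ℂ) * γ = -1 := by
    push_cast
    rw [hβdef]
    linear_combination hshift - (p : ℂ) * γ * hm'
  have e0' : 3 * ((p : ℤ) : ℂ) * w q0 = 2 * ((p : ℤ) : ℂ) - 1 := by push_cast; exact e0
  have hlin := params_linear hpz e0' row2 shift2
  set r : ℤ := (k : ℤ) - (p : ℤ) * (m1 : ℤ) with hr
  have hβr : β * (((m1 : ℤ) : ℂ) + 3 * (r : ℂ)) = 1 := by
    rw [hr]; push_cast at hlin ⊢; exact hlin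
  have hD0 : ((m1 : ℤ) : ℂ) + 3 * (r : ℂ) ≠ 0 := fun h => by
    rw [h, mul_zero] at hβr; exact zero_ne_one hβr
  have hβreal : conj β = β := by
    have h := congrArg conj hβr
    rw [map_mul, map_add, map_mul, map_intCast, map_intCast, map_one, map_ofNat] at h
    exact mul_right_cancel₀ hD0 (h.trans hβr.symm)
  have hp0 : (p : ℂ) ≠ 0 := Nat.cast_ne_zero.2 S.prime.ne_zero
  have hγreal : conj γ = γ := by
    have h := congrArg conj shift2
    simp only [map_add, map_mul, map_intCast, map_neg, map_one, map_ofNat, hβreal] at h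
    refine mul_left_cancel₀ (mul_ne_zero (show (3 : ℂ) ≠ 0 by norm_num) hp0) ?_
    push_cast at h shift2
    linear_combination h - shift2
  have hw1 : conj (w q1) = w q1 := by
    have e : w q1 = β + γ := by rw [hβdef]; ring
    rw [e, map_add, hβreal, hγreal]
  have hnorm : w q0 * w q0 + (k : ℂ) * (w q1 * w q1) + (l : ℂ) * (γ * γ) = w q0 := by
    have h := hidem a₀ a₀
    rw [Finset.sum_congr rfl (g := fun b => w (orb a₀ b) * conj (w (orb a₀ b)))
      (fun b _ => by rw [hherm a₀ b, hw a₀ b]), hw a₀ a₀, hdiag] at h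
    rw [sum_orb q0 q1 q2 h01 h02 h12 hall (orb a₀) (fun q => w q * conj (w q)), hk0, ← hk, ← hl,
      hw1, ← hγdef, hγreal] at h
    have h0 : conj (w q0) = w q0 := by
      rw [← hdiag a₀, ← hw, ← hherm]
    rw [h0] at h
    push_cast at h
    linear_combination h
  have hquad := params_quadratic hpz hr e0' hβr shift2 (by
    rw [show β + γ = w q1 by rw [hβdef]; ring]
    push_cast
    linear_combination hnorm - γ * γ * hkl)
  have hall' : ∀ a b : Ω, a ≠ b → orb (G := G) a b = q1 ∨ orb (G := G) a b = q2 := fun a b hab =>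
    (hall (orb a b)).resolve_left fun h => hab (orb_diag h)
  have hne' : ∀ a b : Ω, orb (G := G) a b = q1 ∨ orb (G := G) a b = q2 → a ≠ b := by
    rintro a b h rfl
    rw [hdiag] at h
    rcases h with h | h
    · exact h01 h
    · exact h02 h
  have hklZ : (k : ℤ) + (l : ℤ) = 3 * (p : ℤ) - 1 := by exact_mod_cast hkl
  have hDz : (m1 : ℤ) + 3 * r ≠ 0 := fun h => hD0 (by exact_mod_cast h)
  have hm3 : m1 ≤ 3 := by omega
  interval_cases m1
  · -- no point of the first orbital
    exfalso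
    push_cast at hquad hDz
    have h : r * (2 * r - 1) = 0 := by linarith
    rcases mul_eq_zero.1 h with h | h <;> omega
  · exact ⟨q1, q2, r, h12, hall', hne', by push_cast at hquad; linarith,
      by push_cast at hr; omega, by push_cast at hr; omega⟩
  · refine ⟨q2, q1, -1 - r, h12.symm, fun a b h => (hall' a b h).symm, fun a b h => hne' a b h.symm,
      ?_, by push_cast at hr; omega, by push_cast at hr; omega⟩
    push_cast at hquad
    linear_combination hquad
  · exfalso
    push_cast at hquad hDz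
    have h : (r + 1) * (2 * r + 3) = 0 := by linarith
    rcases mul_eq_zero.1 h with h | h <;> omega

/-- If involutions fix three points, the Sylow `2`-subgroups have order `8`. -/
theorem eight_of_three [IsSimpleGroup G] (hG : ¬ IsMulCommutative G) (hΩ : Nat.card Ω = 3 * p)
    (hs : s = -1) (hd : d = 2 * p - 1) {ψ : IrrCharacter G} (hψ1 : ψ ≠ one) (hψξ : ψ ≠ ξ)
    (hπ : ∀ g : G, (fix Ω g : ℂ) = 1 + (ξ : G → ℂ) g + (ψ : G → ℂ) g) {v : G} (hv : orderOf v = 2)
    (hone : ∀ w : G, orderOf w = 2 → IsConj v w) (hf : fix Ω v = 3) :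
    ∃ r : ℤ, r % 8 = 1 ∧ 6 * r * r + 3 * r + 1 = 2 * (p : ℤ) ∧ ∃ m : ℕ, Odd m ∧ Nat.card G = 8 * m := by
  classical
  haveI := Fintype.ofFinite Ω
  haveI := Fact.mk Nat.prime_two
  obtain ⟨a₀⟩ := nonempty_points S hΩ
  obtain ⟨q1, q2, r, h12, hall, hne, hquad, hk, hl⟩ := subdegrees S D hΩ hs hd hψ1 hψξ hπ a₀
  have h5 := S.five
  have hp4 : (p : ℤ) % 4 = 1 := by
    have h := four_dvd_sub_fix S hΩ hG hv
    rw [hf] at h
    omega
  have hr8 := r_mod_eight hp4 hquad
  refine ⟨r, hr8, hquad, ?_⟩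
  obtain ⟨g, m, c, hg, hm, -, hGc, -⟩ := exists_two hG hv hone
  -- the residues of the subdegrees
  obtain ⟨t, rfl⟩ : ∃ t : ℤ, r = 8 * t + 1 := ⟨r / 8, by omega⟩
  have hp' : (p : ℤ) = 4 * (48 * t * t + 15 * t + 1) + 1 := by linarith
  have hl16 : (Nat.card {b : Ω // orb (G := G) a₀ b = q2} : ℤ) = 16 * (24 * t * t + 7 * t) + 8 := by
    rw [hl]; linarith
  have hk4 : (Nat.card {b : Ω // orb (G := G) a₀ b = q1} : ℤ) = 4 * (48 * t * t + 17 * t + 1) + 2 := by
    rw [hk]; linarith
  set k := Nat.card {b : Ω // orb (G := G) a₀ b = q1} with hkdef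
  set l := Nat.card {b : Ω // orb (G := G) a₀ b = q2} with hldef
  generalize 24 * t * t + 7 * t = L at hl16
  generalize 48 * t * t + 17 * t + 1 = K at hk4
  -- the orbitals are self-paired
  have hdeg : ∀ q a, Nat.card {b : Ω // orb (G := G) a b = q} =
      Nat.card {b : Ω // orb (G := G) a₀ b = q} := fun q a => deg_eq q a a₀
  have hsym : ∀ a b : Ω, orb (G := G) a b = q1 → orb (G := G) b a = q1 := by
    intro a b hab
    refine (hall b a (hne a b (Or.inl hab)).symm).resolve_right fun hba => ?_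
    have himp : ∀ a' b' : Ω, orb (G := G) a' b' = q1 ↔ orb (G := G) b' a' = q2 := by
      intro a' b'
      constructor
      · intro h
        obtain ⟨g, rfl, rfl⟩ := orb_eq (h.trans hab.symm)
        rw [orb_smul, hba]
      · intro h
        obtain ⟨g, rfl, rfl⟩ := orb_eq (h.trans hba.symm)
        rw [orb_smul, hab]
    have e : (Σ a : Ω, {b : Ω // orb (G := G) a b = q1}) ≃ Σ a : Ω, {b : Ω // orb (G := G) a b = q2} :=
      { toFun := fun z => ⟨z.2.1, z.1, (himp _ _).1 z.2.2⟩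
        invFun := fun z => ⟨z.2.1, z.1, (himp _ _).2 z.2.2⟩
        left_inv := fun z => rfl
        right_inv := fun z => rfl }
    have h := Nat.card_congr e
    rw [Nat.card_sigma, Nat.card_sigma, Finset.sum_congr rfl (fun a _ => hdeg q1 a),
      Finset.sum_congr rfl (fun a _ => hdeg q2 a), Finset.sum_const, Finset.sum_const, smul_eq_mul,
      smul_eq_mul, ← hkdef, ← hldef] at h
    have : k = l := Nat.eq_of_mul_eq_mul_left (by rw [Finset.card_univ, ← Nat.card_eq_fintype_card]; omega) h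
    omega
  -- the fixed points of `v` form a clique
  have hv2 : v ^ 2 = 1 := hv ▸ pow_orderOf_eq_one v
  obtain ⟨a, b, c', hab, hac, hbc, hF⟩ : ∃ a b c : Ω, a ≠ b ∧ a ≠ c ∧ b ≠ c ∧
      ∀ z : Ω, v • z = z ↔ z = a ∨ z = b ∨ z = c := by
    have h : (Finset.univ.filter fun z : Ω => v • z = z).card = 3 := by
      rw [← hf, ← Fintype.card_subtype, ← Nat.card_eq_fintype_card]
      rfl
    obtain ⟨a, b, c, hab, hac, hbc, he⟩ := Finset.card_eq_three.1 h
    refine ⟨a, b, c, hab, hac, hbc, fun z => ?_⟩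
    have := Finset.ext_iff.1 he z
    simpa using this
  have hpar : ∀ z y y' : Ω, v • z = z → v • y = y → v • y' = y' → z ≠ y → z ≠ y' → y ≠ y' →
      orb (G := G) z y = q1 → orb (G := G) z y' = q1 := by
    intro z y y' hz hy hy' hzy hzy' hyy' h
    by_contra hcon
    let σ : Equiv.Perm {w : Ω // orb (G := G) z w = q1} := (MulAction.toPerm v).subtypePerm fun w => by
      show orb (G := G) z (v • w) = q1 ↔ orb (G := G) z w = q1
      have e := orb_smul (G := G) v z w
      rw [hz] at e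
      rw [e]
    have hσ : σ ^ 2 ^ 1 = 1 := by
      refine Equiv.ext fun w => Subtype.ext ?_
      rw [pow_one, pow_two, Equiv.Perm.mul_apply, Equiv.Perm.one_apply]
      show v • v • (w : Ω) = w
      rw [← mul_smul, ← pow_two, hv2, one_smul]
    have hmod := Equiv.Perm.card_compl_support_modEq hσ
    have h1 : σ.supportᶜ.card = 1 := by
      rw [Finset.card_eq_one]
      refine ⟨⟨y, h⟩, ?_⟩
      ext w
      rw [Finset.mem_compl, Equiv.Perm.notMem_support, Finset.mem_singleton]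
      constructor
      · intro hw
        have hw' : v • (w : Ω) = w := congrArg Subtype.val hw
        refine Subtype.ext ?_
        have hwz : z ≠ (w : Ω) := hne _ _ (Or.inl w.2)
        have h3 := (hF _).1 hw'
        have h4 := (hF _).1 hz
        have h5 := (hF _).1 hy
        have h6 := (hF _).1 hy'
        by_contra hwy
        have hwy' : (w : Ω) ≠ y' := fun e => hcon (e ▸ w.2)
        simp only at hwy
        rcases h3 with e1 | e1 | e1 <;> rcases h4 with e2 | e2 | e2 <;> rcases h5 with e3 | e3 | e3 <;>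
          rcases h6 with e4 | e4 | e4 <;> simp_all
      · rintro rfl
        exact Subtype.ext hy
    rw [h1, ← Nat.card_eq_fintype_card, hdeg, ← hkdef] at hmod
    have : 1 % 2 = k % 2 := hmod
    omega
  obtain ⟨q, hq, hqv⟩ : ∃ q, (q = q1 ∨ q = q2) ∧
      ∀ z y : Ω, v • z = z → v • y = y → z ≠ y → orb (G := G) z y ≠ q := by
    have hva : v • a = a := (hF a).2 (Or.inl rfl)
    have hvb : v • b = b := (hF b).2 (Or.inr (Or.inl rfl))
    have hvc : v • c' = c' := (hF c').2 (Or.inr (Or.inr rfl))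
    by_cases h1 : orb (G := G) a b = q1
    · refine ⟨q2, Or.inr rfl, fun z y hz hy hzy h => ?_⟩
      have e1 := hpar a b c' hva hvb hvc hab hac hbc h1
      have e2 := hsym _ _ h1
      have e3 := hsym _ _ e1
      have e4 := hpar b a c' hvb hva hvc hab.symm hbc hac e2
      have e5 := hsym _ _ e4
      rcases (hF z).1 hz with rfl | rfl | rfl <;> rcases (hF y).1 hy with rfl | rfl | rfl <;>
        first
          | exact hzy rfl
          | exact h12 (e1.symm.trans h)
          | exact h12 (e2.symm.trans h)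
          | exact h12 (e3.symm.trans h)
          | exact h12 (e4.symm.trans h)
          | exact h12 (e5.symm.trans h)
          | exact h12 (h1.symm.trans h)
    · refine ⟨q1, Or.inl rfl, fun z y hz hy hzy h => h1 ?_⟩
      rcases (hF z).1 hz with rfl | rfl | rfl <;> rcases (hF y).1 hy with rfl | rfl | rfl <;>
        first
          | exact absurd rfl hzy
          | exact h
          | exact hsym _ _ h
          | exact hpar _ _ _ hva hvc hvb hac hab hbc.symm h
          | exact hpar _ _ _ hva hvc hvb hac hab hbc.symm (hsym _ _ h)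
          | exact hsym _ _ (hpar _ _ _ hvb hvc hva hbc hab.symm hac.symm h)
          | exact hsym _ _ (hpar _ _ _ hvb hvc hva hbc hab.symm hac.symm (hsym _ _ h))
  -- a two-point stabiliser of odd order
  obtain ⟨b', hb'⟩ : ∃ b' : Ω, orb (G := G) a₀ b' = q := by
    have hpos : 0 < Nat.card {b : Ω // orb (G := G) a₀ b = q} := by
      rcases hq with rfl | rfl
      · rw [← hkdef]; omega
      · rw [← hldef]; omega
    obtain ⟨⟨b', hb'⟩⟩ := (Nat.card_pos_iff.1 hpos).1
    exact ⟨b', hb'⟩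
  have hodd : Odd (Nat.card ↥(stabilizer G a₀ ⊓ stabilizer G b')) := by
    rw [← Nat.not_even_iff_odd, even_iff_two_dvd]
    intro hd2
    obtain ⟨w, hw⟩ := exists_prime_orderOf_dvd_card' 2 hd2
    have hw' : orderOf (w : G) = 2 := by rw [Subgroup.orderOf_coe, hw]
    obtain ⟨h, hh⟩ := isConj_iff.1 (hone _ hw')
    have hmv : ∀ z : Ω, (w : G) • z = z → v • (h⁻¹ • z) = h⁻¹ • z := by
      intro z hz
      rw [eq_inv_smul_iff, ← mul_smul, ← mul_smul, hh, hz]
    refine hqv (h⁻¹ • a₀) (h⁻¹ • b') (hmv _ w.2.1) (hmv _ w.2.2)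
      (fun e => ?_) ((orb_smul _ _ _).trans hb')
    exact hne _ _ (by rcases hq with rfl | rfl; exacts [Or.inl hb', Or.inr hb']) (smul_left_cancel _ e)
  have hcount := Subgroup.card_mul_index (stabilizer G a₀)
  rw [index_stabilizer_of_transitive, hΩ, ← deg_mul a₀ b', hb', hGc] at hcount
  set o := Nat.card ↥(stabilizer G a₀ ⊓ stabilizer G b') with ho
  obtain ⟨o', ho'⟩ := hodd
  obtain ⟨m', hm'⟩ := hm
  obtain ⟨u', hu'⟩ := S.prime.odd_of_ne_two (by omega)
  have hcancel : ∀ {i n n' : ℕ}, 2 ^ g * n = 2 ^ i * n' → Odd n → Odd n' → g = i := by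
    intro i n n' h h1 h2
    rcases Nat.lt_trichotomy g i with hlt | heq | hlt
    · exfalso
      obtain ⟨j, rfl⟩ : ∃ j, i = g + (j + 1) := ⟨i - g - 1, by omega⟩
      rw [pow_add, mul_assoc] at h
      rw [Nat.eq_of_mul_eq_mul_left (show 0 < 2 ^ g by positivity) h, pow_succ', Nat.odd_mul, Nat.odd_mul] at h1
      exact absurd h1.1.1 (by decide)
    · exact heq
    · exfalso
      obtain ⟨j, rfl⟩ : ∃ j, g = i + (j + 1) := ⟨g - i - 1, by omega⟩
      rw [pow_add, mul_assoc] at h
      rw [← Nat.eq_of_mul_eq_mul_left (show 0 < 2 ^ i by positivity) h, pow_succ', Nat.odd_mul, Nat.odd_mul] at h2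
      exact absurd h2.1.1 (by decide)
  have hodd3 : Odd (o * (3 * p)) := Nat.odd_mul.2 ⟨⟨o', ho'⟩, Nat.odd_mul.2 ⟨⟨1, rfl⟩, ⟨u', hu'⟩⟩⟩
  rcases hq with rfl | rfl
  · exfalso
    rw [← hkdef] at hcount
    obtain ⟨K', hK'⟩ : ∃ K' : ℕ, k = 2 * (2 * K' + 1) := ⟨k / 4, by omega⟩
    rw [hK'] at hcount
    have := hcancel (i := 1) (n := m) (n' := (2 * K' + 1) * (o * (3 * p))) (by rw [pow_one, ← hcount]; ring)
      ⟨m', hm'⟩ (Nat.odd_mul.2 ⟨⟨K', rfl⟩, hodd3⟩)
    omega
  · rw [← hldef] at hcount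
    obtain ⟨L', hL'⟩ : ∃ L' : ℕ, l = 8 * (2 * L' + 1) := ⟨l / 16, by omega⟩
    rw [hL'] at hcount
    have := hcancel (i := 3) (n := m) (n' := (2 * L' + 1) * (o * (3 * p)))
      (by rw [show (2 : ℕ) ^ 3 = 8 from rfl, ← hcount]; ring) ⟨m', hm'⟩ (Nat.odd_mul.2 ⟨⟨L', rfl⟩, hodd3⟩)
    subst this
    exact ⟨m, ⟨m', hm'⟩, hGc.trans (by norm_num)⟩

end Cfsg.Agent.ThreeP
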